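import Groth.Agent.EtAcyc.K158.EsDesc
import Groth.Agent.Pi1.K868.BcLoc
import Groth.Agent.EtAcyc.K286.FinStab

/-!
# Calculus of essential surjectivity over open subsets of the base

`EScOn n U f b`: the predicate `ESc n f b` for the strictly henselian bases with closed point in `U`;
`GES η f b`: over a neighbourhood of `η`, for all `n`.
-/

set_option autoImplicit false
universe u

open CategoryTheory CategoryTheory.Limits AlgebraicGeometry IsLocalRing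

namespace K153.EsCalc

open K868.Bc K158.EsDesc Groth.Agent.Etrest.StrictLoc Groth.Agent.Sga1.UlaSL

/-- `ESc` over a subset of `S`. -/
def EScOn (n : ℕ) {X Y S : Scheme.{u}} (U : Set S) (f : X ⟶ Y) (b : Y ⟶ S) : Prop :=
  ∀ (O : Type u) [CommRing O] [IsLocalRing O]
    (_ : HenselianLocalRing O) (_ : IsSepClosed (ResidueField O)) (_ : IsUnit (n : O))
    (t : Spec (CommRingCat.of O) ⟶ S), t (closedPoint O) ∈ U → EScAt n f b O t

/-- `ESc` over a neighbourhood of `η`, for all `n`. -/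
def GES {X Y S : Scheme.{u}} (η : S) (f : X ⟶ Y) (b : Y ⟶ S) : Prop :=
  ∃ U : S.Opens, η ∈ U ∧ ∀ n, EScOn n (U : Set S) f b

theorem EScOn.mono {n : ℕ} {X Y S : Scheme.{u}} {f : X ⟶ Y} {b : Y ⟶ S} {U U' : Set S} (h : EScOn n U f b)
    (hU : U' ⊆ U) : EScOn n U' f b := fun O _ _ hO hk hn t ht => h O hO hk hn t (hU ht)

section BC

variable {X Y S X' Y' S' : Scheme.{u}} {f : X ⟶ Y} {b : Y ⟶ S} {f' : X' ⟶ Y'} {b' : Y' ⟶ S'} {x' : X' ⟶ X}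
  {y : Y' ⟶ Y} {s : S' ⟶ S} (hy : IsPullback y b' b s) (hx : IsPullback x' f' f y) {O : Type u} [CommRing O]
  [IsLocalRing O] {t' : Spec (CommRingCat.of O) ⟶ S'}

include hy hx

theorem escAt_bc {n : ℕ} (h : EScAt n f b O (t' ≫ s)) : EScAt n f' b' O t' := by
  intro A _ _ Y₁ c b₁ sq₁ σ hσ hcl XA x fA sqA Xs i q hi G _ _ hG P ρ hρ
  refine h A (c ≫ y) b₁ (sq₁.paste_horiz hy) σ hσ hcl (x ≫ x') fA ?_ i q hi G hG P ρ hρ
  rw [← Category.assoc]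
  exact sqA.paste_horiz hx

omit [IsLocalRing O] in
theorem escOn_bc {n : ℕ} {U : Set S} (h : EScOn n U f b) : EScOn n (s ⁻¹' U) f' b' :=
  fun O _ _ hO hk hn t ht => escAt_bc hy hx (h O hO hk hn (t ≫ s) (by rw [Scheme.Hom.comp_apply]; exact ht))

theorem escAt_of_bc {n : ℕ} (h : EScAt n f' b' O t') : EScAt n f b O (t' ≫ s) := by
  intro A _ _ Y₁ c b₁ sq₁ σ hσ hcl XA x fA sqA Xs i q hi G _ _ hG P ρ hρ
  let c' : Y₁ ⟶ Y' := hy.lift c (b₁ ≫ t') (by rw [sq₁.w, Category.assoc])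
  have hc1 : c' ≫ y = c := hy.lift_fst _ _ _
  have hc2 : c' ≫ b' = b₁ ≫ t' := hy.lift_snd _ _ _
  have sqc : IsPullback c' b₁ b' t' := by
    refine IsPullback.of_right (h₁₂ := y) (v₁₃ := b) (h₂₂ := s) ?_ hc2 hy
    rw [hc1]
    exact sq₁
  let x₁ : XA ⟶ X' := hx.lift x (fA ≫ σ ≫ c') (by rw [sqA.w, Category.assoc, Category.assoc, hc1])
  have hx1 : x₁ ≫ x' = x := hx.lift_fst _ _ _
  have hx2 : x₁ ≫ f' = fA ≫ σ ≫ c' := hx.lift_snd _ _ _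
  refine h A c' b₁ sqc σ hσ hcl x₁ fA ?_ i q hi G hG P ρ hρ
  refine IsPullback.of_right (h₁₂ := x') (v₁₃ := f) (h₂₂ := y) ?_ hx2 hx
  rw [hx1, Category.assoc, hc1]
  exact sqA

omit [IsLocalRing O] in
theorem escOn_of_open {n : ℕ} [IsOpenImmersion s] {U : Set S'} (h : EScOn n U f' b') : EScOn n (s '' U) f b := by
  rintro O _ _ hO hk hn t ⟨z, hz, hzt⟩
  obtain ⟨t', rfl⟩ := Groth.Agent.Etbc.H192.Glue.exists_lift s t ⟨z, hzt⟩
  refine escAt_of_bc hy hx (h O hO hk hn t' ?_)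
  rw [Scheme.Hom.comp_apply] at hzt
  rw [← s.injective hzt]
  exact hz

end BC

section Local

variable {X Y S : Scheme.{u}} {f : X ⟶ Y} {b : Y ⟶ S} {O : Type u} [CommRing O]
  [IsLocalRing O] {t : Spec (CommRingCat.of O) ⟶ S}

/-- Étale neighbourhoods in `Y`. -/
theorem escAt_of_local {n : ℕ} (h : ∀ y : Y, ∃ (Y' X' : Scheme.{u}) (i : Y' ⟶ Y) (_ : Etale i) (x' : X' ⟶ X)
    (f' : X' ⟶ Y'), y ∈ Set.range i ∧ IsPullback x' f' f i ∧ EScAt n f' (i ≫ b) O t) : EScAt n f b O t := by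
  intro A _ _ Y₁ c b₁ sq₁ σ hσ hcl XA x fA sqA Xs j q hj G _ _ hG P ρ hρ
  obtain ⟨Y', X', i, hi, x', f', hy, sqi, hf'⟩ := h (c (σ (closedPoint A)))
  have sqc : IsPullback (pullback.fst i c) (pullback.snd i c) i c := IsPullback.of_hasPullback i c
  have hoi : Etale (pullback.snd i c) := inferInstance
  obtain ⟨w, hw⟩ : ∃ w, pullback.snd i c w = σ (closedPoint A) := by
    obtain ⟨y', hy'⟩ := hy
    obtain ⟨w, -, hw⟩ := Scheme.Pullback.exists_preimage_pullback (f := i) (g := c) y'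
      (σ (closedPoint A)) hy'
    exact ⟨w, hw⟩
  obtain ⟨σ', hσs, hσ', -⟩ := K286.FinStab.exists_lift (pullback.snd i c) hσ w hw
  have e1 : x ≫ f = (fA ≫ σ' ≫ pullback.fst i c) ≫ i := by
    rw [sqA.w, ← hσ']
    simp only [Category.assoc]
    rw [pullback.condition]
  let x₁ : XA ⟶ X' := sqi.lift x (fA ≫ σ' ≫ pullback.fst i c) e1
  have hx1 : x₁ ≫ x' = x := sqi.lift_fst _ _ _
  have hx2 : x₁ ≫ f' = fA ≫ σ' ≫ pullback.fst i c := sqi.lift_snd _ _ _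
  have sqA' : IsPullback x₁ fA f' (σ' ≫ pullback.fst i c) := by
    refine IsPullback.of_right (h₁₂ := x') (v₁₃ := f) (h₂₂ := i) ?_ hx2 sqi
    rw [hx1, Category.assoc, pullback.condition, ← Category.assoc, hσ']
    exact sqA
  refine hf' A (pullback.fst i c) (pullback.snd i c ≫ b₁) (sqc.paste_vert sq₁) σ' hσs (by
    rw [Scheme.Hom.comp_apply, ← hcl, ← hσ', Scheme.Hom.comp_apply]) x₁ fA sqA' j q ?_ G hG P ρ hρ
  rw [← Category.assoc σ', hσ']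
  exact hj

end Local

section Generic

variable {X Y S : Scheme.{u}} {f : X ⟶ Y} {b : Y ⟶ S} {η : S}

theorem ges_of_local {J : Type u} [Finite J] {Y' X' : J → Scheme.{u}} (i : ∀ j, Y' j ⟶ Y)
    (hi : ∀ j, Etale (i j)) (hc : ∀ y : Y, ∃ j, y ∈ Set.range (i j)) (x' : ∀ j, X' j ⟶ X)
    (f' : ∀ j, X' j ⟶ Y' j) (hs : ∀ j, IsPullback (x' j) (f' j) f (i j))
    (h : ∀ j, GES η (f' j) (i j ≫ b)) : GES η f b := by
  choose U hU h using h
  obtain ⟨U₀, h0, h1⟩ := exists_inter η U hU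
  refine ⟨U₀, h0, fun n O _ _ hO hk hn t ht => escAt_of_local fun y => ?_⟩
  obtain ⟨j, hj⟩ := hc y
  exact ⟨Y' j, X' j, i j, hi j, x' j, f' j, hj, hs j, h j n O hO hk hn t (h1 j ht)⟩

/-- Descent. -/
theorem ges_of_desc {X₁ : Scheme.{u}} (q : X₁ ⟶ X) [QuasiCompact q] (hq : Subtr.UnivSSubtrusive q)
    (h1 : GES η (q ≫ f) b) (h2 : GFF η (pullback.snd q q ≫ q ≫ f) b)
    (h3 : GFaith η (pullback.snd (pullback.snd q q ≫ q) q ≫ q ≫ f) b) : GES η f b := by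
  obtain ⟨U1, hU1, h1⟩ := h1
  obtain ⟨U2, hU2, h2⟩ := h2
  obtain ⟨U3, hU3, h3⟩ := h3
  refine ⟨U1 ⊓ U2 ⊓ U3, ⟨⟨hU1, hU2⟩, hU3⟩, fun n O _ _ hO hk hn t ht => ?_⟩
  exact escAt_of_desc n f b q hq (h1 n O hO hk hn t ht.1.1)
    (h2 (n * n) O hO hk (isUnit_mul_self hn) t ht.1.2) (h3 O hO hk t ht.2)

/-- The leaves. -/
theorem ges_of_esc (h : ∀ n, ESc n f b) : GES η f b :=
  ⟨⊤, trivial, fun n O _ _ hO hk hn t _ A _ _ => h n O A hO hk hn t⟩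

end Generic

/-- Node D1 for fixed `(O, t)`. -/
def D1 : Prop :=
  ∀ (n : ℕ) {X Z Y S : Scheme.{u}} (j : X ⟶ Z) [IsOpenImmersion j] [QuasiCompact j] (p : Z ⟶ Y) [IsProper p]
    (b : Y ⟶ S) (O : Type u) [CommRing O] [IsLocalRing O] (_ : HenselianLocalRing O)
    (_ : IsSepClosed (ResidueField O)) (_ : IsUnit (n : O)) (t : Spec (CommRingCat.of O) ⟶ S)
    (_ : EScAt n j (p ≫ b) O t) (_ : FFAt (n * n) j (p ≫ b) O t) (_ : FaithAt j (p ≫ b) O t),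
    EScAt n (j ≫ p) b O t

theorem ges_of_proper (hD1 : D1.{u}) {X Z Y S : Scheme.{u}} {η : S} (j : X ⟶ Z) [IsOpenImmersion j]
    [QuasiCompact j] (p : Z ⟶ Y) [IsProper p] (b : Y ⟶ S) (h1 : GES η j (p ≫ b)) (h2 : GFF η j (p ≫ b))
    (h3 : GFaith η j (p ≫ b)) : GES η (j ≫ p) b := by
  obtain ⟨U1, hU1, h1⟩ := h1
  obtain ⟨U2, hU2, h2⟩ := h2
  obtain ⟨U3, hU3, h3⟩ := h3
  refine ⟨U1 ⊓ U2 ⊓ U3, ⟨⟨hU1, hU2⟩, hU3⟩, fun n O _ _ hO hk hn t ht => ?_⟩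
  exact hD1 n j p b O hO hk hn t (h1 n O hO hk hn t ht.1.1)
    (h2 (n * n) O hO hk (isUnit_mul_self hn) t ht.1.2) (h3 O hO hk t ht.2)

end K153.EsCalc
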