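import Groth.Agent.Pi1C.IdemCrit

/-!
# Full faithfulness of `FEt.restrict f` preserves connectedness
-/

set_option autoImplicit false
universe u

open CategoryTheory CategoryTheory.Limits AlgebraicGeometry
open Groth.Agent.Pi1C.IdemCrit

namespace K153.ConnFF

variable {X S : Scheme.{u}} (f : X ⟶ S)

/-- The base change of a connected finite étale cover along `f` with `FEt.restrict f` fully
faithful is connected. -/
theorem connectedSpace_pullback [(FEt.restrict f).Full] [(FEt.restrict f).Faithful]
    (T : FEt.Cat S) [ConnectedSpace T.left] : ConnectedSpace ↥(pullback T.hom f) := by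
  have hne : Nonempty ↥(pullback T.hom f) := by
    by_contra hne
    rw [not_nonempty_iff] at hne
    have h0 : (1 : Γ(T.left, ⊤)) = 0 := by
      refine idem_eq_of_faithful f T 1 0 (one_mul 1) (mul_zero 0) ?_
      have : Subsingleton Γ(pullback T.hom f, ⊤) :=
        CommRingCat.subsingleton_of_isTerminal ((pullback T.hom f).sheaf.isTerminalOfEqEmpty
          (by ext x; exact (hne.false x).elim))
      exact Subsingleton.elim _ _
    obtain ⟨t⟩ := (inferInstance : Nonempty T.left)
    have ht : t ∈ T.left.basicOpen (1 : Γ(T.left, ⊤)) := by
      rw [Scheme.basicOpen_one]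
      trivial
    rw [h0, Scheme.basicOpen_zero] at ht
    exact ht
  have hpre : PreconnectedSpace ↥(pullback T.hom f) := by
    rw [preconnectedSpace_iff_clopen]
    intro V hV
    obtain ⟨e, he, rfl⟩ := exists_idem_of_isClopen hV
    obtain ⟨e', he', rfl⟩ := exists_idem_of_full f T e he
    have h1 : ((pullback T.hom f).basicOpen ((pullback.fst T.hom f).appTop e') : Set _) =
        pullback.fst T.hom f ⁻¹' (T.left.basicOpen e' : Set T.left) := by
      rw [← Scheme.preimage_basicOpen_top]
      rfl
    rw [h1]
    rcases isClopen_iff.mp (isClopen_basicOpen he') with h | h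
    · left
      rw [h, Set.preimage_empty]
    · right
      rw [h, Set.preimage_univ]
  exact { toPreconnectedSpace := hpre, toNonempty := hne }

/-- The same with the factors of the fibre product exchanged. -/
theorem connectedSpace_pullback' [(FEt.restrict f).Full] [(FEt.restrict f).Faithful]
    (T : FEt.Cat S) [ConnectedSpace T.left] : ConnectedSpace ↥(pullback f T.hom) := by
  have := connectedSpace_pullback f T
  exact (Scheme.homeoOfIso (pullbackSymmetry T.hom f)).surjective.connectedSpace
    (Scheme.homeoOfIso (pullbackSymmetry T.hom f)).continuous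

end K153.ConnFF
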