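import Groth.Agent.Pi1.K153.GalX
import Groth.Agent.Pi1.K153.ConnFF
import Groth.Agent.Pi1.H397.Conn
import Groth.Agent.S0295
import Groth.Agent.S0285

/-!
# Essential image of fully faithful exact functors of Galois categories

If `H : C ⥤ C'` is exact and fully faithful and the connected object `X'` receives a map from
`H(Z)` with `Z` not initial, then `X'` is in the essential image. Application to `FEt.restrict f`.
-/

set_option autoImplicit false
universe u v w

open CategoryTheory CategoryTheory.Limits AlgebraicGeometry
open Groth.Agent.Pi1C.GalWhisker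

namespace K153.EssImg

section

open PreGaloisCategory

variable {C : Type u} {C' : Type u} [Category.{v} C] [Category.{v} C']
  (H : C ⥤ C')
  [GaloisCategory C] [GaloisCategory C'] [PreservesFiniteLimits H] [PreservesFiniteColimits H]

lemma exists_obj_of_map [H.Full] (Z : C) (X' : C') [PreGaloisCategory.IsConnected X']
    (p : H.obj Z ⟶ X') (hne : IsInitial (H.obj Z) → False) :
    ∃ X : C, Nonempty (H.obj X ≅ X') := by
  let F' : C' ⥤ FintypeCat.{v} := GaloisCategory.getFiberFunctor C'
  have : FiberFunctor (H ⋙ F') := Groth.Agent.Pi1A.GaloisExact.fiberFunctor_comp H F'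
  refine exists_obj_of_ker_acts_trivially H F' (surjective_of_full H F') X' ?_
  intro σ hσ x
  have : Nonempty (F'.obj (H.obj Z)) := (not_initial_iff_fiber_nonempty F' _).mp hne
  obtain ⟨z, rfl⟩ := surjective_of_nonempty_fiber_of_isConnected F' p x
  rw [← map_smul']
  congr 1
  have h5 : Pi1X.autWhisker H F' σ • (show (H ⋙ F').obj Z from z) =
      (show (H ⋙ F').obj Z from z) := by rw [hσ, one_smul]
  exact h5

end

/-- The category of finite étale covers of a connected scheme is a Galois category. -/
lemma galoisCategory (X : Scheme.{u}) [ConnectedSpace X] :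
    ∃ _ : PreGaloisCategory (FEt.Cat X), GaloisCategory (FEt.Cat X) := by
  obtain ⟨x⟩ := (inferInstance : Nonempty X)
  obtain ⟨h1, F, hF, -⟩ := Groth.Agent.S0295.result (X := X)
    (Spec.map (CommRingCat.ofHom (algebraMap (X.residueField x)
      (AlgebraicClosure (X.residueField x)))) ≫ X.fromSpecResidueField x)
  exact ⟨h1, ⟨⟨F, ⟨hF⟩⟩⟩⟩

/-- **Essential image.** If `FEt.restrict f` is full, `U` is connected and some `V ×_S X` with `V`
nonempty maps to `U`, then `U` comes from `S`. -/
theorem exists_obj {X S : Scheme.{u}} [ConnectedSpace X] [ConnectedSpace S] (f : X ⟶ S)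
    [(FEt.restrict f).Full] (V : FEt.Cat S) (U : FEt.Cat X) [ConnectedSpace U.left]
    (e : (FEt.restrict f).obj V ⟶ U) (hne : Nonempty ((FEt.restrict f).obj V).left) :
    ∃ S' : FEt.Cat S, Nonempty ((FEt.restrict f).obj S' ≅ U) := by
  obtain ⟨h1, h2⟩ := galoisCategory X
  obtain ⟨h3, h4⟩ := galoisCategory S
  obtain ⟨h5, h6⟩ := Groth.Agent.S0285.result f
  have h7 : PreGaloisCategory.IsConnected U :=
    (Groth.Agent.Pi1.H397.Conn.isConnected_iff U).mpr inferInstance
  refine exists_obj_of_map (FEt.restrict f) V U e ?_
  intro h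
  have := Groth.Agent.Pi1.H397.Conn.isEmpty_of_isInitial _ h
  exact this.false hne.some

end K153.EssImg
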