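import Groth.Prelude.Def_SGA2
import Groth.Agent.Pi1C.PurityQuot

/-!
# Pure pairs at the closed point of a local ring, and purity from a quotient

* `isPurePair_punctured_iff`: the pair `(Spec A, closed point)` is pure iff restriction of finite étale
  covers from `Spec A` to the punctured spectrum is an equivalence.
* `isEquivalence_of_quotient`: if `(A, I)` is henselian, restriction from the punctured spectrum of `A` to
  that of `A/I` is fully faithful, and `A/I` is pure, then `A` is pure.
-/

set_option autoImplicit false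
universe u

open AlgebraicGeometry CategoryTheory CategoryTheory.Limits

namespace K153.PurePair

open Groth.Agent.Pi1C.PurityQuot

theorem isEquivalence_of_comp {X Y Z : Scheme.{u}} (f : X ⟶ Y) (g : Y ⟶ Z)
    [(FEt.restrict f).IsEquivalence] [(FEt.restrict g).IsEquivalence] :
    (FEt.restrict (f ≫ g)).IsEquivalence :=
  Functor.isEquivalence_of_iso (restrictComp f g).symm

theorem isPurePair_punctured_iff (A : Type u) [CommRing A] [IsLocalRing A] :
    SGA2.IsPurePair (Spec (CommRingCat.of A)) (FEt.puncturedSpec A) ↔
      (FEt.restrict (FEt.puncturedSpec A).ι).IsEquivalence := by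
  constructor
  · intro h
    have h1 := h ⊤
    have e : (FEt.puncturedSpec A).ι =
        ((Spec (CommRingCat.of A)).isoOfEq (top_inf_eq (FEt.puncturedSpec A)).symm).hom ≫
          (Spec (CommRingCat.of A)).homOfLE
            (inf_le_left : (⊤ : (Spec (CommRingCat.of A)).Opens) ⊓ FEt.puncturedSpec A ≤ ⊤) ≫
          (⊤ : (Spec (CommRingCat.of A)).Opens).ι := by
      simp
    rw [e]
    have hι : IsIso (⊤ : (Spec (CommRingCat.of A)).Opens).ι :=
      inferInstanceAs (IsIso (Spec (CommRingCat.of A)).topIso.hom)
    have h2 := isEquivalence_of_comp ((Spec (CommRingCat.of A)).homOfLE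
            (inf_le_left : (⊤ : (Spec (CommRingCat.of A)).Opens) ⊓ FEt.puncturedSpec A ≤ ⊤))
          (⊤ : (Spec (CommRingCat.of A)).Opens).ι
    exact isEquivalence_of_comp _ _
  · intro h V
    have hι : IsIso (⊤ : (Spec (CommRingCat.of A)).Opens).ι :=
      inferInstanceAs (IsIso (Spec (CommRingCat.of A)).topIso.hom)
    by_cases hV : (IsLocalRing.closedPoint A : ↥(Spec (CommRingCat.of A))) ∈ V
    · have hV' : V = ⊤ := (IsLocalRing.closedPoint_mem_iff (U := V)).1 hV
      subst hV'
      have e : (Spec (CommRingCat.of A)).homOfLE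
            (inf_le_left : (⊤ : (Spec (CommRingCat.of A)).Opens) ⊓ FEt.puncturedSpec A ≤ ⊤) =
          ((Spec (CommRingCat.of A)).isoOfEq (top_inf_eq (FEt.puncturedSpec A))).hom ≫
          (FEt.puncturedSpec A).ι ≫ inv (⊤ : (Spec (CommRingCat.of A)).Opens).ι := by
        rw [← Category.assoc, IsIso.eq_comp_inv]
        simp
      rw [e]
      have h2 := isEquivalence_of_comp (FEt.puncturedSpec A).ι
        (inv (⊤ : (Spec (CommRingCat.of A)).Opens).ι)
      exact isEquivalence_of_comp _ _
    · have hVU : V ⊓ FEt.puncturedSpec A = V := by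
        refine inf_eq_left.2 fun x hx hxc => hV ?_
        have : x = IsLocalRing.closedPoint A := hxc
        rw [← this]
        exact hx
      have e : (Spec (CommRingCat.of A)).homOfLE
            (inf_le_left : V ⊓ FEt.puncturedSpec A ≤ V) =
          ((Spec (CommRingCat.of A)).isoOfEq hVU).hom := by
        rw [← cancel_mono V.ι]
        simp
      rw [e]
      infer_instance

theorem isEquivalence_of_quotient (A : Type u) [CommRing A] [IsLocalRing A] (I : Ideal A)
    [IsLocalRing (A ⧸ I)]
    [(FEt.restrict (Spec.map (CommRingCat.ofHom (Ideal.Quotient.mk I)))).IsEquivalence]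
    [(FEt.restrict (pullback.fst (FEt.puncturedSpec A).ι
      (Spec.map (CommRingCat.ofHom (Ideal.Quotient.mk I))))).Full]
    [(FEt.restrict (pullback.fst (FEt.puncturedSpec A).ι
      (Spec.map (CommRingCat.ofHom (Ideal.Quotient.mk I))))).Faithful]
    [(FEt.restrict (FEt.puncturedSpec (A ⧸ I)).ι).IsEquivalence] :
    (FEt.restrict (FEt.puncturedSpec A).ι).IsEquivalence := by
  obtain ⟨e, he⟩ := exists_iso_puncturedSpec A (A ⧸ I) (Ideal.Quotient.mk I)
    Ideal.Quotient.mk_surjective
  set j := (FEt.puncturedSpec A).ι with hj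
  set s := Spec.map (CommRingCat.ofHom (Ideal.Quotient.mk I)) with hs
  have h1 : (FEt.restrict (pullback.snd j s)).IsEquivalence := by
    rw [← he]
    exact isEquivalence_of_comp _ _
  have h2 : (FEt.restrict (pullback.snd j s ≫ s)).IsEquivalence := isEquivalence_of_comp _ _
  rw [← pullback.condition] at h2
  let F := FEt.restrict j
  let G := FEt.restrict (pullback.fst j s)
  have h3 : (F ⋙ G).IsEquivalence := Functor.isEquivalence_of_iso (restrictComp _ _)
  have hfaith : F.Faithful := Functor.Faithful.of_comp F G
  have hfull : F.Full := Functor.Full.of_comp_faithful F G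
  have hes : F.EssSurj := ⟨fun W => ⟨(F ⋙ G).objPreimage (G.obj W),
    ⟨G.preimageIso ((F ⋙ G).objObjPreimageIso (G.obj W))⟩⟩⟩
  exact { }

end K153.PurePair
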