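import Groth.Agent.Pi1.K153.FieldSec
import Groth.Agent.S0269
import Groth.Agent.Pi1C.PurityQuot

/-!
# Proper schemes over complete local rings: the homotopy exact sequence

`b : Spec k̄ ⟶ Spec k`, `r : Spec k ⟶ Spec A`, `X` over `Spec A`.
-/

set_option autoImplicit false
universe u

open CategoryTheory CategoryTheory.Limits AlgebraicGeometry
open Groth.Agent.Pi1C.PurityQuot

namespace K153.ClosedFibre

section

variable {S B C X : Scheme.{u}} (f : X ⟶ S) (r : B ⟶ S) (b : C ⟶ B)

lemma isPullback_paste : IsPullback (pullback.fst (pullback.snd f r) b ≫ pullback.fst f r)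
      (pullback.snd (pullback.snd f r) b) f (b ≫ r) :=
  (IsPullback.of_hasPullback (pullback.snd f r) b).flip.paste_vert
      (IsPullback.of_hasPullback f r).flip |>.flip

/-- `(X ×_S B) ×_B C ≅ X ×_S C`. -/
noncomputable def pasteIso : pullback (pullback.snd f r) b ≅ pullback f (b ≫ r) :=
  (isPullback_paste f r b).isoPullback

@[reassoc (attr := simp)]
lemma pasteIso_hom_fst : (pasteIso f r b).hom ≫ pullback.fst f (b ≫ r) =
    pullback.fst (pullback.snd f r) b ≫ pullback.fst f r :=
  (isPullback_paste f r b).isoPullback_hom_fst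

@[reassoc (attr := simp)]
lemma pasteIso_inv_fst : (pasteIso f r b).inv ≫
    pullback.fst (pullback.snd f r) b ≫ pullback.fst f r = pullback.fst f (b ≫ r) :=
  (isPullback_paste f r b).isoPullback_inv_fst

/-- The commutation of base changes. -/
noncomputable def square : FEt.restrict f ⋙ FEt.restrict (pullback.fst f r) ≅
    FEt.restrict r ⋙ FEt.restrict (pullback.snd f r) :=
  (restrictComp (pullback.fst f r) f).symm ≪≫ restrictCongr pullback.condition ≪≫
    restrictComp (pullback.snd f r) r

end

theorem full_faithful {S B X : Scheme.{u}} (f : X ⟶ S) (r : B ⟶ S)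
    [(FEt.restrict r).IsEquivalence] [(FEt.restrict (pullback.fst f r)).IsEquivalence]
    [(FEt.restrict (pullback.snd f r)).Full] [(FEt.restrict (pullback.snd f r)).Faithful] :
    (FEt.restrict f).Full ∧ (FEt.restrict f).Faithful := by
  have h1 : (FEt.restrict r ⋙ FEt.restrict (pullback.snd f r)).Full := inferInstance
  have h2 : (FEt.restrict r ⋙ FEt.restrict (pullback.snd f r)).Faithful := inferInstance
  have h3 : (FEt.restrict f ⋙ FEt.restrict (pullback.fst f r)).Full :=
    Functor.Full.of_iso (square f r).symm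
  have h4 : (FEt.restrict f ⋙ FEt.restrict (pullback.fst f r)).Faithful :=
    Functor.Faithful.of_iso (square f r).symm
  exact ⟨Functor.Full.of_comp_faithful (FEt.restrict f) (FEt.restrict (pullback.fst f r)),
    Functor.Faithful.of_comp (FEt.restrict f) (FEt.restrict (pullback.fst f r))⟩

/-- Covers over `X` with a section over a geometric fibre. -/
theorem exists_obj_of_section {S B C X : Scheme.{u}} (f : X ⟶ S) (r : B ⟶ S) (b : C ⟶ B)
    [(FEt.restrict r).EssSurj] [(FEt.restrict (pullback.fst f r)).IsEquivalence]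
    (H : ∀ (Z : FEt.Cat (pullback f r)), ConnectedSpace Z.left →
      ∀ (τ : pullback (pullback.snd f r) b ⟶ Z.left),
      τ ≫ Z.hom = pullback.fst (pullback.snd f r) b →
      ∃ S' : FEt.Cat B, Nonempty ((FEt.restrict (pullback.snd f r)).obj S' ≅ Z))
    (X' : FEt.Cat X) [ConnectedSpace X'.left]
    (σ : pullback f (b ≫ r) ⟶ X'.left) (hσ : σ ≫ X'.hom = pullback.fst f (b ≫ r)) :
    ∃ T : FEt.Cat S, Nonempty ((FEt.restrict f).obj T ≅ X') := by
  have hconn : ConnectedSpace ((FEt.restrict (pullback.fst f r)).obj X').left :=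
    K153.ConnFF.connectedSpace_pullback (pullback.fst f r) X'
  obtain ⟨S', ⟨e⟩⟩ := H ((FEt.restrict (pullback.fst f r)).obj X') hconn
    (pullback.lift ((pasteIso f r b).hom ≫ σ) (pullback.fst (pullback.snd f r) b) (by
      rw [Category.assoc, hσ, pasteIso_hom_fst])) (pullback.lift_snd _ _ _)
  let T := (FEt.restrict r).objPreimage S'
  let i : (FEt.restrict r).obj T ≅ S' := (FEt.restrict r).objObjPreimageIso S'
  let j : (FEt.restrict (pullback.fst f r)).obj ((FEt.restrict f).obj T) ≅
      (FEt.restrict (pullback.fst f r)).obj X' :=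
    (square f r).app T ≪≫ (FEt.restrict (pullback.snd f r)).mapIso i ≪≫ e
  exact ⟨T, ⟨(FEt.restrict (pullback.fst f r)).preimageIso j⟩⟩

/-- A monomorphism of finite étale covers is an open and closed immersion. -/
theorem clopen_of_mono {Y : Scheme.{u}} {V W : FEt.Cat Y} (m : V ⟶ W) [Mono m] :
    IsOpenImmersion m.left ∧ IsClosedImmersion m.left := by
  have h1 : IsOpenImmersion m.left := Groth.Agent.Pi1B.FEtPreGalois.isOpenImmersion_left_of_mono m
  have h2 : IsFinite m.left := (Groth.Agent.Pi1B.FEtPreGalois.prop_left m).1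
  refine ⟨h1, ?_⟩
  refine IsClosedImmersion.of_isPreimmersion _ ?_
  exact m.left.isClosedMap.isClosed_range

/-- Covers of a geometric fibre embed in the restriction of covers of the total space. -/
theorem exists_clopen_embedding {S B C X : Scheme.{u}} (f : X ⟶ S) (r : B ⟶ S) (b : C ⟶ B)
    [(FEt.restrict (pullback.fst f r)).EssSurj]
    (H : ∀ (V : FEt.Cat (pullback (pullback.snd f r) b)),
      ∃ (U : FEt.Cat (pullback f r))
        (ι : V ⟶ (FEt.restrict (pullback.fst (pullback.snd f r) b)).obj U),
        IsOpenImmersion ι.left ∧ IsClosedImmersion ι.left)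
    (V : FEt.Cat (pullback f (b ≫ r))) :
    ∃ (U : FEt.Cat X) (ι : V ⟶ (FEt.restrict (pullback.fst f (b ≫ r))).obj U),
      IsOpenImmersion ι.left ∧ IsClosedImmersion ι.left := by
  obtain ⟨U₀, ι, h1, h2⟩ := H ((FEt.restrict (pasteIso f r b).hom).obj V)
  have hm : Mono ι := by
    constructor
    intro Z a c hac
    ext1
    exact (cancel_mono ι.left).mp (congrArg (fun t => t.left) hac)
  obtain ⟨hl, -⟩ := Groth.Agent.S0285.result (pasteIso f r b).inv
  have hm' : Mono ((FEt.restrict (pasteIso f r b).inv).map ι) := inferInstance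
  let U := (FEt.restrict (pullback.fst f r)).objPreimage U₀
  let i : (FEt.restrict (pullback.fst f r)).obj U ≅ U₀ :=
    (FEt.restrict (pullback.fst f r)).objObjPreimageIso U₀
  -- the source
  let α : V ≅ (FEt.restrict (pasteIso f r b).inv).obj ((FEt.restrict (pasteIso f r b).hom).obj V) :=
    (restrictId _).symm.app V ≪≫ (restrictCongr (pasteIso f r b).inv_hom_id.symm).app V ≪≫
      (restrictComp (pasteIso f r b).inv (pasteIso f r b).hom).app V
  -- the target
  let β : (FEt.restrict (pasteIso f r b).inv).obj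
      ((FEt.restrict (pullback.fst (pullback.snd f r) b)).obj U₀) ≅
      (FEt.restrict (pullback.fst f (b ≫ r))).obj U :=
    (FEt.restrict (pasteIso f r b).inv).mapIso
      ((FEt.restrict (pullback.fst (pullback.snd f r) b)).mapIso i.symm) ≪≫
    (FEt.restrict (pasteIso f r b).inv).mapIso
      ((restrictComp (pullback.fst (pullback.snd f r) b) (pullback.fst f r)).symm.app U) ≪≫
    (restrictComp (pasteIso f r b).inv
      (pullback.fst (pullback.snd f r) b ≫ pullback.fst f r)).symm.app U ≪≫
    (restrictCongr (pasteIso_inv_fst f r b)).app U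
  let m : V ⟶ (FEt.restrict (pullback.fst f (b ≫ r))).obj U :=
    α.hom ≫ (FEt.restrict (pasteIso f r b).inv).map ι ≫ β.hom
  have : Mono m := inferInstance
  exact ⟨U, m, clopen_of_mono m⟩

section Local

variable (A : Type u) [CommRing A] [IsNoetherianRing A] [IsLocalRing A]
  [IsAdicComplete (IsLocalRing.maximalIdeal A) A]

omit [IsNoetherianRing A] in
lemma henselianLocalRing : HenselianLocalRing A where
  is_henselian f hf a₀ h₁ h₂ :=
    HenselianRing.is_henselian (I := IsLocalRing.maximalIdeal A) f hf a₀ h₁ (h₂.map _)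

end Local

end K153.ClosedFibre
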