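import Groth.Agent.Pi1.K153.ClosedFibre
import Groth.Agent.S0240
import Groth.Agent.S0239

/-!
# Proper schemes over complete local rings: the homotopy exact sequence
-/

set_option autoImplicit false
universe u

open CategoryTheory CategoryTheory.Limits AlgebraicGeometry
open Groth.Agent.Pi1C.PurityQuot K153.ClosedFibre

namespace K153.CompleteFib

variable (A : Type u) [CommRing A] [IsLocalRing A]
  [IsAdicComplete (IsLocalRing.maximalIdeal A) A] {X : Scheme.{u}}
  (f : X ⟶ Spec (CommRingCat.of A)) [IsProper f]

/-- The closed point. -/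
noncomputable abbrev r : Spec (CommRingCat.of (IsLocalRing.ResidueField A)) ⟶
    Spec (CommRingCat.of A) := Spec.map (CommRingCat.ofHom (IsLocalRing.residue A))

/-- The algebraic closure of the residue field. -/
noncomputable abbrev b : Spec (CommRingCat.of (AlgebraicClosure (IsLocalRing.ResidueField A))) ⟶
    Spec (CommRingCat.of (IsLocalRing.ResidueField A)) :=
  Spec.map (CommRingCat.ofHom (algebraMap (IsLocalRing.ResidueField A)
      (AlgebraicClosure (IsLocalRing.ResidueField A))))

omit [IsAdicComplete (IsLocalRing.maximalIdeal A) A] in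
lemma geom_eq : Spec.map (CommRingCat.ofHom ((algebraMap (IsLocalRing.ResidueField A)
      (AlgebraicClosure (IsLocalRing.ResidueField A))).comp (IsLocalRing.residue A))) =
    b A ≫ r A := by
  rw [← Spec.map_comp, ← CommRingCat.ofHom_comp]

lemma isEquivalence_r : (FEt.restrict (r A)).IsEquivalence := by
  have := henselianLocalRing A
  exact Groth.Agent.S0239.result A (IsLocalRing.maximalIdeal A)

lemma isEquivalence_fst : (FEt.restrict (pullback.fst f (r A))).IsEquivalence := by
  have := henselianLocalRing A
  exact Groth.Agent.S0240.result A f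

omit [IsAdicComplete (IsLocalRing.maximalIdeal A) A] [IsProper f] in
lemma connectedSpace_closedFibre [ConnectedSpace ↥(pullback f (b A ≫ r A))] :
    ConnectedSpace ↥(pullback (pullback.snd f (r A)) (b A)) :=
  (Scheme.homeoOfIso (pasteIso f (r A) (b A)).symm).surjective.connectedSpace
    (Scheme.homeoOfIso (pasteIso f (r A) (b A)).symm).continuous

omit [IsAdicComplete (IsLocalRing.maximalIdeal A) A] in
lemma qcqs : CompactSpace ↥(pullback f (r A)) ∧ QuasiSeparatedSpace ↥(pullback f (r A)) := by
  constructor
  · exact QuasiCompact.compactSpace_of_compactSpace (pullback.snd f (r A))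
  · exact quasiSeparatedSpace_of_quasiSeparated (pullback.snd f (r A))

theorem full_faithful' [ConnectedSpace ↥(pullback f (b A ≫ r A))] :
    (FEt.restrict f).Full ∧ (FEt.restrict f).Faithful := by
  have h1 := isEquivalence_r A
  have h2 := isEquivalence_fst A f
  have h3 := connectedSpace_closedFibre A f
  obtain ⟨h4, h5⟩ := qcqs A f
  obtain ⟨h6, h7⟩ := Groth.Agent.S0268.result (IsLocalRing.ResidueField A)
    (pullback.snd f (r A))
  exact full_faithful f (r A)

theorem exists_obj' [ConnectedSpace ↥(pullback f (b A ≫ r A))]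
    (X' : FEt.Cat X) [ConnectedSpace X'.left]
    (σ : pullback f (b A ≫ r A) ⟶ X'.left) (hσ : σ ≫ X'.hom = pullback.fst f (b A ≫ r A)) :
    ∃ T : FEt.Cat (Spec (CommRingCat.of A)), Nonempty ((FEt.restrict f).obj T ≅ X') := by
  have h1 := isEquivalence_r A
  have h2 := isEquivalence_fst A f
  have h3 := connectedSpace_closedFibre A f
  obtain ⟨h4, h5⟩ := qcqs A f
  refine exists_obj_of_section f (r A) (b A) ?_ X' σ hσ
  intro Z hZ τ hτ
  exact K153.FieldSec.main (IsLocalRing.ResidueField A) (pullback.snd f (r A)) Z τ hτ

theorem exists_clopen' [ConnectedSpace ↥(pullback f (b A ≫ r A))]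
    (V : FEt.Cat (pullback f (b A ≫ r A))) :
    ∃ (U : FEt.Cat X) (ι : V ⟶ (FEt.restrict (pullback.fst f (b A ≫ r A))).obj U),
      IsOpenImmersion ι.left ∧ IsClosedImmersion ι.left := by
  have h2 := isEquivalence_fst A f
  have h3 := connectedSpace_closedFibre A f
  obtain ⟨h4, h5⟩ := qcqs A f
  refine exists_clopen_embedding f (r A) (b A) ?_ V
  intro V
  exact Groth.Agent.S0269.result (IsLocalRing.ResidueField A) (pullback.snd f (r A)) V

end K153.CompleteFib
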