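import Groth.Agent.Pi1.K153.MaxGen
import Groth.Agent.Pi1A.ClopenCrit
import Groth.Agent.Pi1C.StrictHensConn
import Groth.Agent.S0537
import Mathlib.AlgebraicGeometry.Morphisms.QuasiFinite

/-!
# Full faithfulness of restriction to a dense open (locally finitely many irreducible components)
-/

set_option autoImplicit false
universe u

open CategoryTheory CategoryTheory.Limits AlgebraicGeometry
open K153.MaxGen

namespace K153.DenseFF

lemma finite_maxGen_open {X : Scheme.{u}} (V : X.Opens)
    (h : (irreducibleComponents ↥V).Finite) : {x : X | x ∈ V ∧ IsMaxGen x}.Finite := by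
  have hq : QuasiSober ↥V := V.isOpenEmbedding.quasiSober
  have ht : T0Space ↥V := inferInstance
  have h1 := finite_isMaxGen h
  refine (h1.image (Subtype.val)).subset ?_
  rintro x ⟨hx, hx'⟩
  refine ⟨⟨x, hx⟩, ?_, rfl⟩
  intro z hz
  apply Subtype.ext
  exact hx' _ (hz.map continuous_subtype_val)

lemma isMaxGen_map {X T : Scheme.{u}} (f : T ⟶ X) [Flat f] {z : T} (hz : IsMaxGen z) :
    IsMaxGen (f z) := by
  intro x hx
  obtain ⟨z', hz', rfl⟩ := Flat.generalizingMap f hx
  rw [hz z' hz']

theorem exists_nbhd {X T : Scheme.{u}} (f : T ⟶ X) [IsFinite f] [Flat f]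
    (hirr : ∀ V : X.Opens, IsCompact (V : Set X) → (irreducibleComponents ↥V).Finite) (y : T) :
    ∃ N : Set T, IsOpen N ∧ y ∈ N ∧ {z : T | z ∈ N ∧ IsMaxGen z}.Finite := by
  obtain ⟨V, hV, hyV, -⟩ := exists_isAffineOpen_mem_and_subset (X := X) (U := ⊤) (x := f y) trivial
  refine ⟨f ⁻¹' (V : Set X), V.isOpen.preimage f.continuous, hyV, ?_⟩
  have h1 : {x : X | x ∈ V ∧ IsMaxGen x}.Finite := finite_maxGen_open V (hirr V hV.isCompact)
  have h2 : (f ⁻¹' {x : X | x ∈ V ∧ IsMaxGen x}).Finite := by
    refine Set.Finite.preimage' h1 ?_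
    intro x _
    exact f.finite_preimage_singleton x
  exact h2.subset fun z hz => ⟨hz.1, isMaxGen_map f hz.2⟩

theorem clopen_aux {X T : Scheme.{u}} (f : T ⟶ X) [Etale f] [IsFinite f] (U : X.Opens)
    (hU : Dense (U : Set X))
    (hirr : ∀ V : X.Opens, IsCompact (V : Set X) → (irreducibleComponents ↥V).Finite)
    (hsh : ∀ x : X, x ∉ U → ∀ (R : Type u) [CommRing R] [IsLocalRing R] [Algebra (X.presheaf.stalk x) R]
      [IsLocalHom (algebraMap (X.presheaf.stalk x) R)] [Hensel.IsStrictHenselization (X.presheaf.stalk x) R],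
      ConnectedSpace (FEt.puncturedSpec R : Scheme.{u})) (V : Set ↥(pullback f U.ι)) (hV : IsClopen V) :
    ∃ W : Set T, IsClopen W ∧ pullback.fst f U.ι ⁻¹' W = V := by
  have hrange : Set.range (pullback.fst f U.ι) = f ⁻¹' (U : Set X) := by
    rw [Scheme.Pullback.range_fst]
    congr 1
    exact U.range_ι
  have hemb := (pullback.fst f U.ι).isOpenEmbedding
  obtain ⟨W, hW, hW'⟩ := exists_clopen (f ⁻¹' (U : Set X)) (hU.preimage f.isOpenMap)
    (exists_nbhd f hirr) (by
      intro y hy
      have hy' : f y ∉ U := hy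
      obtain ⟨R, _, _, _, _, hR⟩ := Groth.Agent.S0537.result (X.presheaf.stalk (f y))
      have hen : HenselianLocalRing R := hR.henselian
      have hsep : IsSepClosed (IsLocalRing.ResidueField R) :=
        hR.isSepClosure.sep_closed
      obtain ⟨t, ht1, ht2⟩ := Groth.Agent.Pi1C.StrictHensPoint.exists_lift_of_etale f y R
        (Hens2.specOf X (f y) R) (Groth.Agent.Pi1C.StrictHensConn.specOf_closedPoint X (f y) R)
      have hwe : WeaklyEtale (t ≫ f) := by
        rw [ht1]
        exact Groth.Agent.Pi1C.StrictHensConn.weaklyEtale_specOf X (f y) R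
      have hwe2 : WeaklyEtale t := WeaklyEtale.of_comp t f
      have hc := hsh (f y) hy' R
      have key : {z : T | z ⤳ y ∧ z ≠ y} = t '' (FEt.puncturedSpec R) := by
        ext z
        constructor
        · rintro ⟨hz1, hz2⟩
          rw [← ht2] at hz1
          obtain ⟨r, hr, rfl⟩ := Flat.generalizingMap t hz1
          refine ⟨r, ?_, rfl⟩
          change r ≠ IsLocalRing.closedPoint R
          rintro rfl
          exact hz2 ht2
        · rintro ⟨r, hr, rfl⟩
          have hr' : r ≠ IsLocalRing.closedPoint R := hr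
          have hsp : r ⤳ IsLocalRing.closedPoint R := IsLocalRing.specializes_closedPoint r
          refine ⟨?_, ?_⟩
          · rw [← ht2]
            exact hsp.map t.continuous
          · intro h
            apply hr'
            apply Groth.Agent.Pi1C.StrictHensConn.eq_closedPoint_of_specOf_eq X (f y) R r
            rw [← ht1, Scheme.Hom.comp_apply, h]
      rw [key]
      refine IsPreconnected.image ?_ _ t.continuous.continuousOn
      exact (isConnected_iff_connectedSpace.mpr hc).isPreconnected)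
    (pullback.fst f U.ι '' V) (pullback.fst f U.ι '' Vᶜ) (hemb.isOpenMap _ hV.2)
    (hemb.isOpenMap _ hV.compl.2)
    ((Set.disjoint_image_iff hemb.injective).mpr disjoint_compl_right)
    (by rw [← Set.image_union, Set.union_compl_self, Set.image_univ, hrange])
  refine ⟨W, hW, ?_⟩
  rw [← Set.preimage_image_eq V hemb.injective, ← hW', Set.preimage_inter, ← hrange,
    Set.preimage_range, Set.inter_univ]

theorem dense_aux {X T : Scheme.{u}} (f : T ⟶ X) [Etale f] (U : X.Opens) (hU : Dense (U : Set X))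
    (W : Set T) (hW : IsClopen W) (hW0 : pullback.fst f U.ι ⁻¹' W = ∅) : W = ∅ := by
  have hrange : Set.range (pullback.fst f U.ι) = f ⁻¹' (U : Set X) := by
    rw [Scheme.Pullback.range_fst]
    congr 1
    exact U.range_ι
  have hd : Dense (f ⁻¹' (U : Set X)) := hU.preimage f.isOpenMap
  by_contra hne
  obtain ⟨w, hw⟩ := Set.nonempty_iff_ne_empty.mpr hne
  obtain ⟨z, hz1, hz2⟩ := (hd.inter_open_nonempty W hW.isOpen ⟨w, hw⟩)
  rw [← hrange] at hz2
  obtain ⟨z', rfl⟩ := hz2
  have : z' ∈ pullback.fst f U.ι ⁻¹' W := hz1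
  rw [hW0] at this
  exact this

theorem main {X : Scheme.{u}} (U : X.Opens)
    (hU : Dense (U : Set X))
    (hirr : ∀ V : X.Opens, IsCompact (V : Set X) → (irreducibleComponents ↥V).Finite)
    (hsh : ∀ x : X, x ∉ U → ∀ (R : Type u) [CommRing R] [IsLocalRing R] [Algebra (X.presheaf.stalk x) R]
      [IsLocalHom (algebraMap (X.presheaf.stalk x) R)] [Hensel.IsStrictHenselization (X.presheaf.stalk x) R],
      ConnectedSpace (FEt.puncturedSpec R : Scheme.{u})) :
    (FEt.restrict U.ι).Full ∧ (FEt.restrict U.ι).Faithful := by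
  apply Groth.Agent.Pi1A.ClopenCrit.restrict_fullyFaithful_of_isClopen
  · intro T W hW hW0
    exact dense_aux T.hom U hU W hW hW0
  · intro T V hV
    exact clopen_aux T.hom U hU hirr hsh V hV

end K153.DenseFF
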