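import Groth.Agent.LocCoh.K168.AdjDepth

/-!
# `depth A_p + dim A/p > 2` on the punctured spectrum, from `depth A_p ≥ 2` at its closed points

* `ringKrullDim_quotient_eq`: `dim A/p` is the length of the longest chain from `p` to the closed point.
* `two_lt_depth_add`: if `depth A_p ≥ 2` whenever `dim A/p = 1`, then `depth A_p + dim A/p > 2` for every
  non-maximal prime `p`.
-/

set_option autoImplicit false
universe u

open Groth.Agent.Ega4B.CatHeight

namespace K153.DepthAdd

theorem ringKrullDim_quotient_eq {A : Type u} [CommRing A] [IsLocalRing A] (p : PrimeSpectrum A) :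
    ringKrullDim (A ⧸ p.asIdeal) = (rlen p (IsLocalRing.closedPoint A) : ℕ∞) := by
  have hle : p.asIdeal ≤ IsLocalRing.maximalIdeal A := IsLocalRing.le_maximalIdeal p.2.ne_top
  have hloc : IsLocalRing (A ⧸ p.asIdeal) :=
    IsLocalRing.of_surjective' (Ideal.Quotient.mk p.asIdeal) Ideal.Quotient.mk_surjective
  have hh : IsLocalHom (Ideal.Quotient.mk p.asIdeal) :=
    Ideal.Quotient.mk_surjective.isLocalHom
  rw [← IsLocalRing.maximalIdeal_height_eq_ringKrullDim]
  have h := rlen_comap_eq_height (f := Ideal.Quotient.mk p.asIdeal) Ideal.Quotient.mk_surjective p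
    (by simp) (IsLocalRing.closedPoint (A ⧸ p.asIdeal))
  rw [IsLocalRing.comap_closedPoint] at h
  rw [h]
  rfl

theorem two_lt_depth_add (A : Type u) [CommRing A] [IsNoetherianRing A] [IsLocalRing A]
    (hdepth : ∀ p : Ideal A, ∀ _ : p.IsPrime, ringKrullDim (A ⧸ p) = 1 →
      (2 : ℕ∞) ≤ LocCoh.depth (Localization.AtPrime p) (Localization.AtPrime p))
    (p : Ideal A) [hp' : p.IsPrime] (hp : p ≠ IsLocalRing.maximalIdeal A) :
    (2 : WithBot ℕ∞) < (LocCoh.depth (Localization.AtPrime p) (Localization.AtPrime p) :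
      WithBot ℕ∞) + ringKrullDim (A ⧸ p) := by
  set P : PrimeSpectrum A := ⟨p, hp'⟩ with hP
  set m : PrimeSpectrum A := IsLocalRing.closedPoint A with hm
  have hPm : P < m := lt_of_le_of_ne (IsLocalRing.le_maximalIdeal hp'.ne_top)
    (fun h => hp (congrArg PrimeSpectrum.asIdeal h))
  have h1 : ringKrullDim (A ⧸ p) = (rlen P m : ℕ∞) := ringKrullDim_quotient_eq P
  have hdep : ∀ Q : PrimeSpectrum A, rlen Q m = 1 → (2 : ℕ∞) ≤ K168.AdjDepth.dp A Q := by
    intro Q hQ
    exact hdepth Q.asIdeal Q.2 (by rw [ringKrullDim_quotient_eq, ← hm, hQ]; rfl)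
  have key : (2 : ℕ∞) < K168.AdjDepth.dp A P + rlen P m := by
    have h2 : 1 ≤ rlen P m := one_le_rlen hPm
    have hne : rlen P m ≠ ⊤ := rlen_ne_top P m
    obtain ⟨n, hn⟩ := ENat.ne_top_iff_exists.1 hne
    rw [← hn] at h2 ⊢
    have h2' : 1 ≤ n := by exact_mod_cast h2
    rcases Nat.lt_or_ge 2 n with h3 | h3
    · calc (2 : ℕ∞) < (n : ℕ∞) := by exact_mod_cast h3
        _ ≤ _ := le_add_self
    · rcases Nat.lt_or_ge n 2 with h4 | h4
      · have hn1 : n = 1 := by omega
        subst hn1
        have h5 := hdep P (by rw [← hn]; rfl)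
        calc (2 : ℕ∞) < 2 + 1 := by decide
          _ ≤ _ := by gcongr
      · have hn2 : n = 2 := by omega
        subst hn2
        obtain ⟨s, hs1, hs2, hs3⟩ := exists_ltSeries_of_rlen_ne_top hPm.le hne
        rw [← hn] at hs3
        have hs3' : s.length = 2 := by exact_mod_cast hs3
        let Q : PrimeSpectrum A := s ⟨1, by omega⟩
        have hPQ : P < Q := by
          rw [← hs1]
          exact s.strictMono (Fin.mk_lt_mk.2 (by simp : (0 : ℕ) < 1))
        have hQm : Q < m := by
          rw [← hs2]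
          refine s.strictMono ?_
          rw [Fin.lt_def]
          simp only [Fin.val_last]
          omega
        have h6 := one_le_rlen hPQ
        have h7 := one_le_rlen hQm
        have h8 := rlen_add_le hPQ.le hQm.le
        rw [← hn] at h8
        have h9 : rlen P Q ≠ ⊤ := rlen_ne_top P Q
        have h10 : rlen Q m ≠ ⊤ := rlen_ne_top Q m
        obtain ⟨a, ha⟩ := ENat.ne_top_iff_exists.1 h9
        obtain ⟨b, hb⟩ := ENat.ne_top_iff_exists.1 h10
        rw [← ha, ← hb] at h8
        rw [← ha] at h6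
        rw [← hb] at h7
        have h6' : 1 ≤ a := by exact_mod_cast h6
        have h7' : 1 ≤ b := by exact_mod_cast h7
        have h8' : a + b ≤ 2 := by exact_mod_cast h8
        have ha1 : a = 1 := by omega
        have hb1 : b = 1 := by omega
        subst ha1 hb1
        have h11 := hdep Q (by rw [← hb]; rfl)
        have h12 := K168.AdjDepth.dp_le_dp_add A P Q hPQ.le
        rw [← ha] at h12
        have h13 : (2 : ℕ∞) ≤ K168.AdjDepth.dp A P + ((1 : ℕ) : ℕ∞) := h11.trans h12
        have h14 : (1 : ℕ∞) ≤ K168.AdjDepth.dp A P := by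
          rcases eq_or_ne (K168.AdjDepth.dp A P) ⊤ with h | h
          · rw [h]; exact le_top
          · obtain ⟨c, hc⟩ := ENat.ne_top_iff_exists.1 h
            rw [← hc] at h13 ⊢
            have : 2 ≤ c + 1 := by exact_mod_cast h13
            have : 1 ≤ c := by omega
            exact_mod_cast this
        calc (2 : ℕ∞) < 1 + 2 := by decide
          _ ≤ _ := by gcongr; rfl
  rw [h1]
  have h2 : ((2 : ℕ∞) : WithBot ℕ∞) < ((K168.AdjDepth.dp A P + rlen P m : ℕ∞) : WithBot ℕ∞) :=
    WithBot.coe_lt_coe.2 key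
  rw [WithBot.coe_add] at h2
  exact h2

end K153.DepthAdd
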