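import Mathlib.RingTheory.DedekindDomain.IntegralClosure
import Mathlib.RingTheory.Jacobson.Ring
import Mathlib.RingTheory.Flat.Localization
import Mathlib.RingTheory.RingHom.Finite
import Mathlib.RingTheory.RingHom.FiniteType
import Mathlib.RingTheory.TensorProduct.Finite

/-!
# Quasi-sections of algebras of finite type over a domain
-/

set_option autoImplicit false
universe u

open scoped TensorProduct

namespace K153.EsAlg

section Dom

variable (Λ C : Type u) [CommRing Λ] [IsDomain Λ] [CommRing C] [Algebra Λ C] [Algebra.FiniteType Λ C]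

/-- A point of the generic fibre. -/
theorem exists_point (hinj : Function.Injective (algebraMap Λ C)) :
    ∃ (κ : Type u) (_ : Field κ) (_ : Algebra (FractionRing Λ) κ) (_ : Module.Finite (FractionRing Λ) κ)
      (θ : C →+* κ), θ.comp (algebraMap Λ C) = (algebraMap (FractionRing Λ) κ).comp (algebraMap Λ (FractionRing Λ)) := by
  let K := FractionRing Λ
  let A := K ⊗[Λ] C
  have h1 : Function.Injective (Algebra.TensorProduct.map (AlgHom.id Λ K) (Algebra.ofId Λ C)) :=
    Module.Flat.lTensor_preserves_injective_linearMap (M := K) (Algebra.linearMap Λ C) hinj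
  have hA : Nontrivial A := by
    have h2 : Nontrivial (K ⊗[Λ] Λ) := (TensorProduct.rid Λ K).toEquiv.nontrivial
    exact h1.nontrivial
  have hft : Algebra.FiniteType K A := Algebra.FiniteType.baseChange K
  obtain ⟨m, hm⟩ := Ideal.exists_maximal A
  let _ : Field (A ⧸ m) := Ideal.Quotient.field m
  have hft' : Algebra.FiniteType K (A ⧸ m) := inferInstance
  have hfin : Module.Finite K (A ⧸ m) := finite_of_finite_type_of_isJacobsonRing K (A ⧸ m)
  refine ⟨A ⧸ m, inferInstance, inferInstance, hfin,
    (Ideal.Quotient.mk m).comp (Algebra.TensorProduct.includeRight : C →ₐ[Λ] A).toRingHom, ?_⟩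
  ext x
  show Ideal.Quotient.mk m ((Algebra.TensorProduct.includeRight : C →ₐ[Λ] A) (algebraMap Λ C x)) = _
  rw [AlgHom.commutes]
  rfl

/-- A quasi-section which is finite over a principal open subset. -/
theorem exists_finite_dom (hinj : Function.Injective (algebraMap Λ C)) :
    ∃ (h : Λ) (_ : h ≠ 0) (D : Type u) (_ : CommRing D) (_ : IsDomain D) (φ : Localization.Away h →+* D)
      (ψ : C →+* D), φ.Finite ∧ Function.Injective φ ∧
        ψ.comp (algebraMap Λ C) = φ.comp (algebraMap Λ (Localization.Away h)) := by
  obtain ⟨κ, _, _, _, θ, hθ⟩ := exists_point Λ C hinj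
  let K := FractionRing Λ
  let _ : Algebra Λ κ := ((algebraMap K κ).comp (algebraMap Λ K)).toAlgebra
  have hT : IsScalarTower Λ K κ := IsScalarTower.of_algebraMap_eq' rfl
  have hκinj : Function.Injective (algebraMap Λ κ) :=
    (algebraMap K κ).injective.comp (IsFractionRing.injective Λ K)
  let θ' : C →ₐ[Λ] κ := { θ with commutes' := fun r => RingHom.congr_fun hθ r }
  obtain ⟨s, hs⟩ := (inferInstance : Algebra.FiniteType Λ C).out
  classical
  obtain ⟨h, hh, hint⟩ := exists_integral_multiples Λ K (s.image θ')
  have hu : IsUnit (algebraMap Λ κ h) := by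
    rw [isUnit_iff_ne_zero]
    exact fun h0 => hh (hκinj (by rw [h0, map_zero]))
  let L := Localization.Away h
  let l : L →+* κ := IsLocalization.Away.lift h hu
  let _ : Algebra L κ := l.toAlgebra
  have hT2 : IsScalarTower Λ L κ := IsScalarTower.of_algebraMap_eq fun x => (IsLocalization.Away.lift_eq h hu x).symm
  let D : Subalgebra L κ := Algebra.adjoin L (θ' '' (s : Set C))
  have hmem : ∀ c, θ' c ∈ D := by
    intro c
    have h1 : (θ'.range : Subalgebra Λ κ) ≤ D.restrictScalars Λ := by
      rw [← Algebra.map_top, ← hs, AlgHom.map_adjoin, Algebra.adjoin_le_iff]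
      exact Algebra.subset_adjoin
    exact h1 ⟨c, rfl⟩
  refine ⟨h, hh, D, inferInstance, inferInstance, algebraMap L D, (θ'.toRingHom.codRestrict D.toSubring fun c => hmem c), ?_, ?_, ?_⟩
  · have h1 : (Algebra.adjoin L (θ' '' (s : Set C))).toSubmodule.FG := by
      refine fg_adjoin_of_finite (s.finite_toSet.image _) ?_
      rintro _ ⟨c, hc, rfl⟩
      have h2 := (hint (θ' c) (Finset.mem_image_of_mem _ hc)).tower_top (A := L)
      have h3 : IsUnit (algebraMap Λ L h) := IsLocalization.Away.algebraMap_isUnit h
      obtain ⟨v, hv⟩ := h3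
      have h4 : θ' c = algebraMap L κ (↑v⁻¹) * (h • θ' c) := by
        rw [Algebra.smul_def, IsScalarTower.algebraMap_apply Λ L κ, ← hv, ← mul_assoc, ← map_mul]
        simp
      rw [h4]
      exact isIntegral_algebraMap.mul h2
    have h5 : Module.Finite L D := Module.Finite.iff_fg.2 h1
    exact RingHom.finite_algebraMap.2 h5
  · have h1 : Function.Injective (algebraMap L κ) := by
      refine (IsLocalization.lift_injective_iff _).2 fun x y => ?_
      have h2 : Function.Injective (algebraMap Λ L) :=
        IsLocalization.injective L (powers_le_nonZeroDivisors_of_noZeroDivisors hh)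
      rw [h2.eq_iff, hκinj.eq_iff]
    exact Function.Injective.of_comp (f := algebraMap D κ) (by
      rw [← RingHom.coe_comp, ← IsScalarTower.algebraMap_eq]
      exact h1)
  · ext x
    show θ' (algebraMap Λ C x) = algebraMap L κ (algebraMap Λ L x)
    rw [← IsScalarTower.algebraMap_apply]
    exact θ'.commutes x

end Dom

end K153.EsAlg
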