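import Groth.Agent.Pi1.K153.EsOpen

/-!
# Generic essential surjectivity

`ges`: for `X ⟶ Y ⟶ S` of finite type over a Noetherian scheme `S` and a generic point `η` of `S`.
-/

set_option autoImplicit false
universe u

open CategoryTheory CategoryTheory.Limits AlgebraicGeometry IsLocalRing

namespace K153.EsAll

open K868.Bc K158.EsDesc K153.EsCalc K153.EsTree K153.EsOpen Groth.Agent.Etrest.StrictLoc Groth.Agent.Sga1.UlaSL

/-- Dense open subsets contain the generic points. -/
theorem mem_of_dense {S : Scheme.{u}} [AlgebraicGeometry.IsNoetherian S] (η : S) (hη : ∀ z : S, z ⤳ η → z = η)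
    (U : S.Opens) (hU : Dense (U : Set S)) : η ∈ U := by
  obtain ⟨Λ, _, _, Λ', _, _, _, i, hi, r, hr, hrs, hx⟩ := exists_generic η
  have hiη : i (r (gp Λ')) = η := hη _ hx
  obtain ⟨_, ⟨w, rfl⟩, hwU⟩ := hU.inter_open_nonempty (Set.range i) i.isOpenEmbedding.isOpen_range
    ⟨i (r (gp Λ')), _, rfl⟩
  obtain ⟨w', rfl⟩ := r.surjective w
  have h7 : gp Λ' ⤳ w' := (PrimeSpectrum.le_iff_specializes (⊥ : PrimeSpectrum Λ') w').1 bot_le
  have h8 : η ⤳ i (r w') := by
    rw [← hiη]
    exact (h7.map r.continuous).map i.continuous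
  exact h8.mem_open U.isOpen hwU

/-- Generic points. -/
theorem exists_gen {S : Scheme.{u}} (x : S) : ∃ η : S, η ⤳ x ∧ ∀ z : S, z ⤳ η → z = η := by
  have hCi : IsIrreducible (irreducibleComponent x) := isIrreducible_irreducibleComponent
  have hCm : irreducibleComponent x ∈ irreducibleComponents S :=
    irreducibleComponent_mem_irreducibleComponents x
  obtain ⟨η, hη⟩ := QuasiSober.sober hCi isClosed_irreducibleComponent
  refine ⟨η, hη.specializes mem_irreducibleComponent, fun z hz => ?_⟩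
  have h1 : irreducibleComponent x ⊆ closure {z} := by
    rw [← hη.def]
    exact closure_minimal (Set.singleton_subset_iff.2 hz.mem_closure) isClosed_closure
  have h2 : closure {z} ⊆ irreducibleComponent x := hCm.2 isIrreducible_singleton.closure h1
  have h3 : η ⤳ z := hη.specializes (h2 (subset_closure rfl))
  exact (hz.antisymm h3).eq

/-- The hypothesis on full faithfulness. -/
theorem hF_of (hgeo : Geo.{u}) (hnor : FFNor.{u}) : HF.{u} := by
  intro X Y S _ f b _ _ _ _ η hη
  obtain ⟨U, hU, h1, h2⟩ := exists_dense_open hgeo hnor f b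
  have h3 := mem_of_dense η hη U hU
  exact ⟨⟨U, h3, h1⟩, ⟨U, h3, h2⟩⟩

section

variable (H : K153.TreeCurve.H15277.{u}) (hF : HF.{u}) (hD1 : D1.{u}) {S : Scheme.{u}}
    [AlgebraicGeometry.IsNoetherian S] {η : S} (hη : ∀ z : S, z ⤳ η → z = η)

include H hF hD1 hη

/-- Open immersions. -/
theorem ges_openImmersion {X Z : Scheme.{u}} (j : X ⟶ Z) [IsOpenImmersion j] (b : Z ⟶ S) [LocallyOfFiniteType b]
    [QuasiCompact b] : GES η j b := by
  obtain ⟨U, hU, h⟩ := ges_open H hF hD1 η hη b j.opensRange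
  let e : X ≅ (j.opensRange : Scheme.{u}) := IsOpenImmersion.isoOfRangeEq j j.opensRange.ι (by
    rw [Scheme.Opens.range_ι]; rfl)
  have he : e.hom ≫ j.opensRange.ι = j := IsOpenImmersion.isoOfRangeEq_hom_fac _ _ _
  refine ⟨U, hU, fun n => ?_⟩
  exact escOn_bc (f := j.opensRange.ι) (b := b) (f' := j) (b' := b) (x' := e.hom) (y := 𝟙 _) (s := 𝟙 _)
    (IsPullback.of_horiz_isIso ⟨by simp⟩) (IsPullback.of_horiz_isIso ⟨by rw [he, Category.comp_id]⟩) (h n)

theorem ges_affine {X Y : Scheme.{u}} [IsAffine X] [IsAffine Y] (f : X ⟶ Y) (b : Y ⟶ S) [LocallyOfFiniteType f]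
    [LocallyOfFiniteType b] [QuasiCompact b] : GES η f b := by
  obtain ⟨Z, j, g, hj, hjq, hg, rfl⟩ := Groth.Agent.S0384.result f
  have h := hF j (g ≫ b) η hη
  exact ges_of_proper hD1 j g b (ges_openImmersion H hF hD1 hη j (g ≫ b)) h.2 h.1

theorem ges_affineTarget {X Y : Scheme.{u}} [IsAffine Y] (f : X ⟶ Y) (b : Y ⟶ S) [LocallyOfFiniteType f]
    [QuasiCompact f] [LocallyOfFiniteType b] [QuasiCompact b] : GES η f b := by
  have hY : AlgebraicGeometry.IsNoetherian Y := isNoetherian_of_lft b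
  have hX : AlgebraicGeometry.IsNoetherian X := isNoetherian_of_lft f
  obtain ⟨J, _, X', _, i, _, hi⟩ := exists_affine_cover X
  let q : ∐ X' ⟶ X := Sigma.desc i
  have hqe : Etale q := IsZariskiLocalAtSource.sigmaDesc (P := @Etale) fun j => inferInstance
  have hqs : Surjective q := by
    refine ⟨fun x => ?_⟩
    obtain ⟨j, z, hz⟩ := hi x
    refine ⟨Sigma.ι X' j z, ?_⟩
    rw [← Scheme.Hom.comp_apply, Sigma.ι_desc]
    exact hz
  have hqc : QuasiCompact q := inferInstance
  have h1 := hF ((pullback.snd q q ≫ q) ≫ f) b η hη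
  have h2 := hF ((pullback.snd (pullback.snd q q ≫ q) q ≫ q) ≫ f) b η hη
  rw [Category.assoc] at h1 h2
  exact ges_of_desc q (univSSubtrusive_of_flat q) (ges_affine H hF hD1 hη (q ≫ f) b) h1.2 h2.1

/-- **Generic essential surjectivity** over Noetherian bases. -/
theorem ges {X Y : Scheme.{u}} (f : X ⟶ Y) (b : Y ⟶ S) [LocallyOfFiniteType f]
    [QuasiCompact f] [LocallyOfFiniteType b] [QuasiCompact b] : GES η f b := by
  have hY : AlgebraicGeometry.IsNoetherian Y := isNoetherian_of_lft b
  obtain ⟨J, _, Y', _, i, _, hi⟩ := exists_affine_cover Y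
  refine ges_of_local i (fun j => inferInstance) hi (fun j => pullback.fst f (i j)) (fun j => pullback.snd f (i j))
    (fun j => IsPullback.of_hasPullback _ _) (fun j => ?_)
  have hY' : AlgebraicGeometry.IsNoetherian (Y' j) := isNoetherian_of_open (i j)
  have hib : QuasiCompact (i j) := inferInstance
  exact ges_affineTarget H hF hD1 hη (pullback.snd f (i j)) (i j ≫ b)

end

end K153.EsAll
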