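import Groth.Agent.Pi1.K153.EsCalc
import Groth.Agent.Pi1.K260.EscAt
import Groth.Agent.Pi1.K260.D1A2
import Groth.Agent.Pi1.K677.D1Glue
import Groth.Agent.Pi1.K77.TrivDesc
import Groth.Agent.Pi1.K77.CocBound
import Groth.Agent.Pi1.K261.D1Nc
import Groth.Agent.Pi1.K15.D1Loc1
import Groth.Agent.Pi1.K228.D1Loc2
import Groth.Agent.Pi1.K420.D1Loc3
import Groth.Agent.Pi1.K826.D1Ext
import Groth.Agent.Pi1.K784.D1Res
import Groth.Agent.Pi1.K471.D1Coba
import Groth.Agent.Pi1.K418.D1PartA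
import Groth.Agent.Pi1.K251.D1PartB
import Groth.Agent.Pi1.K289.D1AicX1
import Groth.Agent.Pi1.K675.D1AicX2

/-!
# Essential surjectivity and proper morphisms
-/

set_option autoImplicit false
universe u

namespace K153.EsD1

theorem partA : K260.D1.PartA.{u} :=
  K418.D1PartA.partA K826.D1Ext.ext
    (K471.D1Coba.cobA K15.D1Loc1.loc1 (K260.D1.cmpEx K228.D1.loc2) (K260.D1.cmpComp K420.D1Loc3.loc3)
      K261.D1Nc.nc K77.D1.h1)
    (K260.D1.cmpEx K228.D1.loc2) K784.D1Res.resTw K784.D1Res.resDel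

theorem partB : K260.D1.PartB.{u} := K251.D1PartB.partB K677.D1.glue K77.D1.trivDesc

/-- The proper node at a fixed base. -/
theorem d1 : K153.EsCalc.D1.{u} :=
  fun n _ _ _ _ j _ _ p _ b _ _ _ _ _ _ _ h1 h2 h3 =>
    K260.Es.escAt_of partA partB K289.D1AicX1.aicX1 K675.AicX2.aicX2 n j p b h1 h2 h3

end K153.EsD1
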