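import Groth.Agent.Pi1.K153.EsAll
import Groth.Agent.EtAcyc.K202.EsFinal
import Groth.Agent.EtAcyc.K157.AlgMain
import Groth.Agent.EtAcyc.K157.GeoBr
import Groth.Agent.S17216

/-!
# S17214 from S15277 and the proper node
-/

set_option autoImplicit false
universe u

open CategoryTheory CategoryTheory.Limits AlgebraicGeometry IsLocalRing

namespace K153.EsFin

open Pi1

theorem main (H : K153.TreeCurve.H15277.{u}) (hD1 : K153.EsCalc.D1.{u})
    {X Y S : Scheme.{u}} [IsNoetherian S] (f : X ⟶ Y) (b : Y ⟶ S)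
    [LocallyOfFiniteType f] [QuasiCompact f] [LocallyOfFiniteType b] [QuasiCompact b] :
    ∃ U : S.Opens, Dense (U : Set S) ∧
      ∀ (G : Type) [Group G] [Finite G], (∀ s ∈ U, IsUnit ((Nat.card G : ℕ) : S.residueField s)) →
      ∀ ⦃S' Y' : Scheme.{u}⦄ (h : S' ⟶ S), Set.range h.base ⊆ (U : Set S) →
      ∀ (g : Y' ⟶ Y) (b' : Y' ⟶ S'), IsPullback g b' b h →
      ∀ (y' : Y') (R : Type u) [CommRing R] [IsLocalRing R] [Algebra (Y.presheaf.stalk (g.base y')) R]
        [IsLocalHom (algebraMap (Y.presheaf.stalk (g.base y')) R)]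
        [Hensel.IsStrictHenselization (Y.presheaf.stalk (g.base y')) R]
        (R' : Type u) [CommRing R'] [IsLocalRing R'] [Algebra (Y'.presheaf.stalk y') R']
        [IsLocalHom (algebraMap (Y'.presheaf.stalk y') R')] [Hensel.IsStrictHenselization (Y'.presheaf.stalk y') R']
        [Algebra R R'],
        (algebraMap R R').comp (algebraMap (Y.presheaf.stalk (g.base y')) R) =
          (algebraMap (Y'.presheaf.stalk y') R').comp (g.stalkMap y').hom →
      letI σ := Hens2.specOf Y (g.base y') R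
      letI m : Spec (CommRingCat.of R') ⟶ Spec (CommRingCat.of R) := Spec.map (CommRingCat.ofHom (algebraMap R R'))
      letI fR := pullback.snd f σ
      letI kb := pullback.fst fR m
      ∀ (P' : FEt.Cat (pullback fR m)) (ρ' : G →* Aut P'), SGA1t.IsPrincipal G P' ρ' →
        ∃ (P : FEt.Cat (pullback f σ)) (ρ : G →* Aut P), SGA1t.IsPrincipal G P ρ ∧
          ∃ e : (FEt.restrict kb).obj P ≅ P', ∀ x : G, (FEt.restrict kb).map (ρ x).hom ≫ e.hom = e.hom ≫ (ρ' x).hom :=
  EtAcyc.K202.EsBase.final (fun a => Groth.Agent.S17216.result a) K157.GeoBr.geo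
    (fun n _ _ g V hS h => K157.AlgMain.ffnor n g V hS h)
    (fun f b _ _ _ _ x => by
      obtain ⟨η, h1, h2⟩ := EsAll.exists_gen x
      exact ⟨η, h1, EsAll.ges H (EsAll.hF_of K157.GeoBr.geo
        (fun n _ _ g V hS h => K157.AlgMain.ffnor n g V hS h)) hD1 h2 f b⟩) f b

end K153.EsFin
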