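import Groth.Agent.Pi1.K153.EsAlg
import Groth.Agent.Pi1.K868.BcNoeth

/-!
# Quasi-sections which are finite over an open subset of the base
-/

set_option autoImplicit false
universe u

open CategoryTheory CategoryTheory.Limits AlgebraicGeometry

namespace K153.EsSec

open K868.Bc Groth.Agent.Etrest.StrictLoc Groth.Agent.Sga1.UlaSL

theorem surjective_of_isClosedImmersion {R R' : CommRingCat.{u}} (π : R ⟶ R') [IsClosedImmersion (Spec.map π)] :
    Function.Surjective π.hom := by
  have h := (IsClosedImmersion.isAffine_surjective_of_isAffine (Spec.map π)).2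
  have e : π = (Scheme.ΓSpecIso R).inv ≫ (Spec.map π).appTop ≫ (Scheme.ΓSpecIso R').hom := by
    rw [← Category.assoc, ← Scheme.ΓSpecIso_inv_naturality, Category.assoc, Iso.inv_hom_id, Category.comp_id]
  rw [e, CommRingCat.hom_comp, CommRingCat.hom_comp, RingHom.coe_comp, RingHom.coe_comp]
  exact ((ConcreteCategory.bijective_of_isIso (Scheme.ΓSpecIso R').hom).2.comp h).comp
    (ConcreteCategory.bijective_of_isIso (Scheme.ΓSpecIso R).inv).2

/-- The ring theoretic statement. -/
theorem exists_ring {Λ Λ' C : Type u} [CommRing Λ] [CommRing Λ'] [IsDomain Λ'] [CommRing C] (π : Λ →+* Λ')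
    (hπ : Function.Surjective π) (γ : Λ' →+* C) (hγ : γ.FiniteType) (hinj : Function.Injective γ) :
    ∃ (h : Λ) (D : Type u) (_ : CommRing D) (_ : IsDomain D) (φ : Localization.Away h →+* D)
      (δ : Λ' →+* D) (ψ : C →+* D), φ.Finite ∧ δ.comp π = φ.comp (algebraMap Λ (Localization.Away h)) ∧
        ψ.comp γ = δ ∧ Function.Injective δ ∧
        ∀ z : PrimeSpectrum D, PrimeSpectrum.comap φ z = PrimeSpectrum.comap φ ⊥ → z = ⊥ := by
  let _ : Algebra Λ' C := γ.toAlgebra
  have hft : Algebra.FiniteType Λ' C := hγ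
  obtain ⟨h', hh', D, _, _, φ, ψ, h1, h2, h3⟩ := EsAlg.exists_finite_dom Λ' C hinj
  obtain ⟨h, rfl⟩ := hπ h'
  have hs : Function.Surjective (Localization.awayMap π h) := by
    rw [Localization.awayMap_surjective_iff]
    intro a
    obtain ⟨b, hb⟩ := hπ a
    exact ⟨b, 0, by simp [hb]⟩
  have ha : (Localization.awayMap π h).comp (algebraMap Λ (Localization.Away h)) =
      (algebraMap Λ' (Localization.Away (π h))).comp π := by
    ext x
    exact IsLocalization.map_eq (M := Submonoid.powers h) (T := Submonoid.powers (π h)) (S := Localization.Away h)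
      (Q := Localization.Away (π h)) (by rintro _ ⟨n, rfl⟩; exact ⟨n, by simp⟩) x
  refine ⟨h, D, inferInstance, inferInstance, φ.comp (Localization.awayMap π h),
    φ.comp (algebraMap Λ' (Localization.Away (π h))), ψ, h1.comp (RingHom.Finite.of_surjective _ hs), ?_, h3, ?_, ?_⟩
  · rw [RingHom.comp_assoc, RingHom.comp_assoc, ha]
  · exact h2.comp (IsLocalization.injective (M := Submonoid.powers (π h)) _
      (powers_le_nonZeroDivisors_of_noZeroDivisors hh'))
  · intro z hz
    have hz' : PrimeSpectrum.comap φ z = PrimeSpectrum.comap φ ⊥ := by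
      apply PrimeSpectrum.comap_injective_of_surjective _ hs
      rw [← PrimeSpectrum.comap_comp_apply, ← PrimeSpectrum.comap_comp_apply]
      exact hz
    let _ : Algebra (Localization.Away (π h)) D := φ.toAlgebra
    have hi : Algebra.IsIntegral (Localization.Away (π h)) D := by
      have : Module.Finite (Localization.Away (π h)) D := h1
      infer_instance
    have hd : IsDomain (Localization.Away (π h)) := Function.Injective.isDomain φ h2
    apply PrimeSpectrum.ext
    apply Ideal.eq_bot_of_comap_eq_bot (R := Localization.Away (π h))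
    have h4 := congrArg PrimeSpectrum.asIdeal hz'
    have h5 : Ideal.comap φ z.asIdeal = Ideal.comap φ ⊥ := h4
    show Ideal.comap φ z.asIdeal = ⊥
    rw [h5, ← RingHom.ker_eq_comap_bot]
    exact (RingHom.injective_iff_ker_eq_bot φ).1 h2

theorem gp_min {D : Type u} [CommRing D] [IsDomain D] (z : Spec (CommRingCat.of D)) (hz : z ⤳ gp D) : z = gp D := by
  have h6 : @LE.le (PrimeSpectrum D) _ z ⊥ := (PrimeSpectrum.le_iff_specializes (R := D) z ⊥).2 hz
  exact le_antisymm (α := PrimeSpectrum D) h6 bot_le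

theorem exists_quasiSection {Λ Λ' : Type u} [CommRing Λ] [CommRing Λ'] [IsDomain Λ']
    (r : Spec (CommRingCat.of Λ') ⟶ Spec (CommRingCat.of Λ)) [IsClosedImmersion r] [Surjective r] {S₁ : Scheme.{u}}
    [IsIntegral S₁] (g : S₁ ⟶ Spec (CommRingCat.of Λ')) [IsDominant g] [LocallyOfFiniteType g] :
    ∃ (S' S₂ : Scheme.{u}) (i' : S' ⟶ Spec (CommRingCat.of Λ)) (_ : IsOpenImmersion i') (_ : IsIntegral S₂)
      (a : S₂ ⟶ S') (_ : IsFinite a) (_ : Surjective a) (s : S₂ ⟶ S₁) (η₂ : S₂), s ≫ g ≫ r = a ≫ i' ∧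
      (∀ z, z ⤳ η₂ → z = η₂) ∧ i' (a η₂) = r (gp Λ') ∧ (∀ z, a z = a η₂ → z = η₂) := by
  -- the ring homomorphism of `r`
  obtain ⟨π, rfl⟩ := Spec.map_surjective r
  have hπ : Function.Surjective π.hom := surjective_of_isClosedImmersion π
  -- an affine open subset of `S₁`
  obtain ⟨x⟩ : Nonempty S₁ := inferInstance
  obtain ⟨W, hW, hxW, -⟩ := exists_isAffineOpen_mem_and_subset (x := x) (U := (⊤ : S₁.Opens)) trivial
  have hWne : Nonempty W := ⟨⟨x, hxW⟩⟩
  let C : Type u := Γ(S₁, W)
  have hCd : IsDomain C := inferInstanceAs (IsDomain Γ(S₁, W))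
  let w : Spec (CommRingCat.of C) ⟶ S₁ := hW.fromSpec
  have hw : IsOpenImmersion w := inferInstanceAs (IsOpenImmersion hW.fromSpec)
  let γ : Λ' →+* C := (Spec.preimage (w ≫ g)).hom
  have hγ : spm γ = w ≫ g := Spec.map_preimage _
  have hγft : γ.FiniteType := by
    have h1 : LocallyOfFiniteType (spm γ) := by rw [hγ]; infer_instance
    exact (HasRingHomProperty.Spec_iff (P := @LocallyOfFiniteType)).1 h1
  have hγi : Function.Injective γ := by
    have h1 : DenseRange (w ≫ g) := by
      have h2 : Dense (Set.range w) := by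
        refine IsOpen.dense w.isOpenEmbedding.isOpen_range ⟨x, ?_⟩
        rw [hW.range_fromSpec]
        exact hxW
      have h3 := (Scheme.Hom.denseRange g).dense_image g.continuous h2
      rw [DenseRange]
      convert h3
      rw [Scheme.Hom.comp_base]
      ext z
      simp
    rw [← hγ] at h1
    have h2 : DenseRange (PrimeSpectrum.comap γ) := h1
    rw [PrimeSpectrum.denseRange_comap_iff_ker_le_nilRadical, nilradical_eq_zero] at h2
    rw [RingHom.injective_iff_ker_eq_bot, ← le_bot_iff]
    exact h2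
  obtain ⟨h, D, _, _, φ, δ, ψ, h1, h2, h3, h4, h5⟩ := exists_ring π.hom hπ γ hγft hγi
  let a : Spec (CommRingCat.of D) ⟶ Spec (CommRingCat.of (Localization.Away h)) := spm φ
  let i' : Spec (CommRingCat.of (Localization.Away h)) ⟶ Spec (CommRingCat.of Λ) :=
    spm (algebraMap Λ (Localization.Away h))
  have hi' : IsOpenImmersion i' :=
    inferInstanceAs (IsOpenImmersion (Spec.map (CommRingCat.ofHom (algebraMap Λ (Localization.Away h)))))
  have haf : IsFinite a := (IsFinite.SpecMap_iff _).2 h1
  have hδ : a ≫ i' = spm δ ≫ Spec.map π := by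
    show spm φ ≫ spm (algebraMap Λ (Localization.Away h)) = spm δ ≫ spm π.hom
    rw [← spm_comp, ← spm_comp, h2]
  have hcomm : (spm ψ ≫ w) ≫ g ≫ Spec.map π = a ≫ i' := by
    rw [hδ, ← h3, spm_comp, hγ]
    simp only [Category.assoc]
  have hgp : i' (a (gp D)) = (Spec.map π) (gp Λ') := by
    rw [← Scheme.Hom.comp_apply, hδ, Scheme.Hom.comp_apply, gp_map h4]
  refine ⟨_, _, i', hi', inferInstance, a, haf, ⟨fun y => ?_⟩, spm ψ ≫ w, gp D, hcomm, ?_, hgp, h5⟩
  · have h6 : a (gp D) ⤳ y := by
      refine i'.isOpenEmbedding.isInducing.specializes_iff.1 ?_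
      rw [hgp]
      obtain ⟨y', hy'⟩ := (Spec.map π).surjective (i' y)
      rw [← hy']
      have h7 : gp Λ' ⤳ y' := (PrimeSpectrum.le_iff_specializes (⊥ : PrimeSpectrum Λ') y').1 bot_le
      exact h7.map (Spec.map π).continuous
    exact h6.mem_closed a.isClosedMap.isClosed_range ⟨_, rfl⟩
  · exact gp_min

end K153.EsSec
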