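import Groth.Agent.Pi1.K153.EsTree
import Groth.Agent.Pi1.K153.EsSec
import Groth.Agent.EtAcyc.K153.TreeMain
import Groth.Agent.EtAcyc.K202.EsBase

/-!
# Generic essential surjectivity for open immersions

`ges_open`: `V ⊆ X` open, `X ⟶ S` of finite type, `S` Noetherian, `η` a generic point of `S`: `GES η V.ι (X ⟶ S)`.
-/

set_option autoImplicit false
universe u

open CategoryTheory CategoryTheory.Limits AlgebraicGeometry IsLocalRing

namespace K153.EsOpen

open K868.Bc K158.EsDesc K153.EsCalc K153.EsTree K153.TreeDef Groth.Agent.Etrest.StrictLoc Groth.Agent.Sga1.UlaSL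

/-- Finite surjective base change. -/
theorem ges_of_finite (hF : HF.{u}) (hD1 : D1.{u}) {S S₂ X X₂ : Scheme.{u}} [AlgebraicGeometry.IsNoetherian S]
    (a : S₂ ⟶ S) [IsFinite a] [Surjective a] {η₂ : S₂} (hη₂ : ∀ z : S₂, z ⤳ η₂ → z = η₂)
    (hu : ∀ z : S₂, a z = a η₂ → z = η₂) (hη : ∀ z : S, z ⤳ a η₂ → z = a η₂) (f : X ⟶ S) [LocallyOfFiniteType f]
    [QuasiCompact f] (V : X.Opens) (p : X₂ ⟶ X) (f₂ : X₂ ⟶ S₂) (hp : IsPullback p f₂ f a)
    (h : GES η₂ (p ⁻¹ᵁ V).ι f₂) : GES (a η₂) V.ι f := by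
  have hS₂ : AlgebraicGeometry.IsNoetherian S₂ := isNoetherian_of_lft a
  have hpf : IsFinite p := MorphismProperty.of_isPullback (P := @IsFinite) hp.flip inferInstance
  have hps : Surjective p := MorphismProperty.of_isPullback (P := @Surjective) hp.flip inferInstance
  have hfl : LocallyOfFiniteType f₂ := MorphismProperty.of_isPullback (P := @LocallyOfFiniteType) hp inferInstance
  have hfq : QuasiCompact f₂ := MorphismProperty.of_isPullback (P := @QuasiCompact) hp inferInstance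
  have hX₂ : AlgebraicGeometry.IsNoetherian X₂ := isNoetherian_of_lft f₂
  obtain ⟨U₁, hU₁, h1⟩ := h
  obtain ⟨⟨U₂, hU₂, h2⟩, ⟨U₃, hU₃, h3⟩⟩ := hF (p ⁻¹ᵁ V).ι f₂ η₂ hη₂
  let U' : S₂.Opens := U₁ ⊓ U₂ ⊓ U₃
  let U : S.Opens := ⟨(a '' (U' : Set S₂)ᶜ)ᶜ, (a.isClosedMap _ U'.isOpen.isClosed_compl).isOpen_compl⟩
  have hU : a η₂ ∈ U := by
    rintro ⟨z, hz, hza⟩
    rw [hu z hza] at hz
    exact hz ⟨⟨hU₁, hU₂⟩, hU₃⟩
  have hUU : a ⁻¹' (U : Set S) ⊆ U' := by
    intro z hz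
    by_contra hz'
    exact hz ⟨z, hz', rfl⟩
  have h4 : GES (a η₂) (p ⁻¹ᵁ V).ι (p ≫ f) := by
    rw [hp.w]
    refine ⟨U, hU, fun n => ?_⟩
    exact EtAcyc.K202.EsBase.escOn_of_base ((h1 n).mono fun z hz => (hUU hz).1.1)
      ((h3 (n * n)).mono fun z hz => (hUU hz).2) (h2.mono fun z hz => (hUU hz).1.2)
  exact ges_of_proper_cover hF hD1 hη f V p (fun x _ => hps.surj x) h4

/-- Open subsets of the base. -/
theorem ges_of_openBase {X Y S X' Y' S' : Scheme.{u}} {f : X ⟶ Y} {b : Y ⟶ S} {f' : X' ⟶ Y'} {b' : Y' ⟶ S'}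
    {x' : X' ⟶ X} {y : Y' ⟶ Y} {s : S' ⟶ S} (hy : IsPullback y b' b s) (hx : IsPullback x' f' f y)
    [IsOpenImmersion s] {η' : S'} (h : GES η' f' b') : GES (s η') f b := by
  obtain ⟨U, hU, h⟩ := h
  exact ⟨s ''ᵁ U, ⟨η', hU, rfl⟩, fun n => escOn_of_open hy hx (h n)⟩

/-- Generic essential surjectivity for open subschemes of schemes of finite type over `S`. -/
theorem ges_open (H : K153.TreeCurve.H15277.{u}) (hF : HF.{u}) (hD1 : D1.{u}) {S X : Scheme.{u}}
    [AlgebraicGeometry.IsNoetherian S] (η : S) (hη : ∀ z : S, z ⤳ η → z = η) (f : X ⟶ S) [LocallyOfFiniteType f]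
    [QuasiCompact f] (V : X.Opens) : GES η V.ι f := by
  obtain ⟨Λ, _, _, Λ', _, _, _, i, hi, r, hr, hrs, hx⟩ := exists_generic η
  have hiη : i (r (gp Λ')) = η := hη _ hx
  have hX : AlgebraicGeometry.IsNoetherian X := isNoetherian_of_lft f
  have hX' : AlgebraicGeometry.IsNoetherian (pullback f (r ≫ i)) := isNoetherian_of_lft (pullback.snd f (r ≫ i))
  obtain ⟨S₁, _, _, g, hg1, hg2, hg3, hT⟩ := TreeMain.exists_tree H (pullback.snd f (r ≫ i))
    (pullback.fst f (r ≫ i) ⁻¹ᵁ V)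
  obtain ⟨S', S₂, i', hi', hS₂, a, ha, has, s, η₂, hcomm, hmin, hgp, hu⟩ := EsSec.exists_quasiSection r g
  have hS' : AlgebraicGeometry.IsNoetherian S' := isNoetherian_of_open (i' ≫ i)
  have hS₂' : AlgebraicGeometry.IsNoetherian S₂ := isNoetherian_of_lft a
  have hη' : (i' ≫ i) (a η₂) = η := by
    rw [Scheme.Hom.comp_apply, hgp, hiη]
  rw [← hη']
  refine ges_of_openBase (s := i' ≫ i) (IsPullback.of_hasPullback f (i' ≫ i))
    (isPullback_morphismRestrict (pullback.fst f (i' ≫ i)) V) ?_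
  refine ges_of_finite hF hD1 a hmin hu (fun z hz => ?_) (pullback.snd f (i' ≫ i))
    (pullback.fst f (i' ≫ i) ⁻¹ᵁ V) (pullback.fst _ a) (pullback.snd _ a) (IsPullback.of_hasPullback _ a) ?_
  · apply (i' ≫ i).injective
    rw [hη']
    apply hη
    rw [← hη']
    exact hz.map (i' ≫ i).continuous
  · have sq := (IsPullback.of_hasPullback (pullback.snd f (i' ≫ i)) a).paste_horiz
      (IsPullback.of_hasPullback f (i' ≫ i))
    have sqY := (IsPullback.of_hasPullback (pullback.snd f (r ≫ i)) g).paste_horiz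
      (IsPullback.of_hasPullback f (r ≫ i))
    let ℓ := sqY.lift (pullback.fst (pullback.snd f (i' ≫ i)) a ≫ pullback.fst f (i' ≫ i))
      (pullback.snd (pullback.snd f (i' ≫ i)) a ≫ s) (by
        rw [sq.w, Category.assoc]
        congr 1
        rw [← Category.assoc a, ← hcomm]
        simp only [Category.assoc])
    have hℓ1 : ℓ ≫ pullback.fst (pullback.snd f (r ≫ i)) g ≫ pullback.fst f (r ≫ i) =
      pullback.fst (pullback.snd f (i' ≫ i)) a ≫ pullback.fst f (i' ≫ i) := sqY.lift_fst _ _ _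
    have hℓ2 : ℓ ≫ pullback.snd (pullback.snd f (r ≫ i)) g = pullback.snd (pullback.snd f (i' ≫ i)) a ≫ s :=
      sqY.lift_snd _ _ _
    have hℓ : IsPullback ℓ (pullback.snd (pullback.snd f (i' ≫ i)) a) (pullback.snd (pullback.snd f (r ≫ i)) g) s := by
      refine IsPullback.of_right (h₁₂ := pullback.fst (pullback.snd f (r ≫ i)) g ≫ pullback.fst f (r ≫ i))
        (v₁₃ := f) (h₂₂ := g ≫ r ≫ i) ?_ hℓ2 sqY
      rw [hℓ1]
      have e : s ≫ g ≫ r ≫ i = a ≫ i' ≫ i := by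
        rw [← Category.assoc a, ← hcomm]
        simp only [Category.assoc]
      rw [e]
      exact sq
    have hT₂ := TreeBase.baseChange hT s _ ℓ hℓ
    have e : ℓ ⁻¹ᵁ (pullback.fst (pullback.snd f (r ≫ i)) g ⁻¹ᵁ (pullback.fst f (r ≫ i) ⁻¹ᵁ V)) =
        pullback.fst (pullback.snd f (i' ≫ i)) a ⁻¹ᵁ (pullback.fst f (i' ≫ i) ⁻¹ᵁ V) := by
      rw [← Scheme.Hom.comp_preimage, ← Scheme.Hom.comp_preimage, ← Scheme.Hom.comp_preimage, Category.assoc, hℓ1]
    rw [e] at hT₂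
    exact ges_of_tree hF hD1 hmin _ _ hT₂ inferInstance inferInstance

end K153.EsOpen
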