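import Groth.Agent.Pi1.K153.EsCalc
import Groth.Agent.Pi1.K868.BcGen
import Groth.Agent.EtAcyc.K153.TreeDef
import Groth.Agent.Pi1.K260.EsLeaf
import Groth.Agent.Models.K381.DisjModel

/-!
# Essential surjectivity for tree certificates

`ges_of_tree`: if `V ⊆ X` has a tree certificate over the Noetherian scheme `T`, and `η` is a generic point of `T`,
then `GES η V.ι (X ⟶ T)`.
-/

set_option autoImplicit false
universe u

open CategoryTheory CategoryTheory.Limits AlgebraicGeometry IsLocalRing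

namespace K153.EsTree

open K868.Bc K158.EsDesc K153.EsCalc K153.TreeDef Groth.Agent.Etrest.StrictLoc Groth.Agent.Sga1.UlaSL

/-- Generic faithfulness and full faithfulness. -/
def HF : Prop :=
  ∀ {X Y S : Scheme.{u}} [AlgebraicGeometry.IsNoetherian S] (f : X ⟶ Y) (b : Y ⟶ S) [LocallyOfFiniteType f]
    [QuasiCompact f] [LocallyOfFiniteType b] [QuasiCompact b] (η : S) (_ : ∀ z : S, z ⤳ η → z = η),
    GFaith η f b ∧ GFF η f b

section Restrict

variable {X Y : Scheme.{u}} (g : Y ⟶ X) (V : X.Opens)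

theorem surj_restrict (h : ∀ x ∈ V, x ∈ Set.range g) : Surjective (g ∣_ V) := by
  refine ⟨fun v => ?_⟩
  obtain ⟨y, hy⟩ := h (V.ι v) v.2
  obtain ⟨z, hz, -⟩ := Scheme.exists_preimage_of_isPullback (isPullback_morphismRestrict g V) v y hy.symm
  exact ⟨z, hz⟩

end Restrict

/-- The proper node. -/
theorem ges_of_proper_cover (hF : HF.{u}) (hD1 : D1.{u}) {T : Scheme.{u}} [AlgebraicGeometry.IsNoetherian T]
    {η : T} (hη : ∀ z : T, z ⤳ η → z = η) {X Y : Scheme.{u}} (f : X ⟶ T) [LocallyOfFiniteType f] [QuasiCompact f]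
    (V : X.Opens) (g : Y ⟶ X) [IsProper g] (hg : ∀ x ∈ V, x ∈ Set.range g)
    (h : GES η (g ⁻¹ᵁ V).ι (g ≫ f)) : GES η V.ι f := by
  have hNX : AlgebraicGeometry.IsNoetherian X := isNoetherian_of_lft f
  have hNY : AlgebraicGeometry.IsNoetherian Y := isNoetherian_of_lft g
  have hs := surj_restrict g V hg
  have h1 := hF (g ⁻¹ᵁ V).ι (g ≫ f) η hη
  have h2 := ges_of_proper hD1 (g ⁻¹ᵁ V).ι g f h h1.2 h1.1
  have h3 : (g ⁻¹ᵁ V).ι ≫ g = (g ∣_ V) ≫ V.ι := (isPullback_morphismRestrict g V).w.symm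
  rw [h3] at h2
  have hp : IsProper (g ∣_ V) := inferInstance
  refine ges_of_desc (g ∣_ V) (univSSubtrusive_of_universallyClosed _) h2 ?_ ?_
  · have := hF ((pullback.snd (g ∣_ V) (g ∣_ V) ≫ (g ∣_ V)) ≫ V.ι) f η hη
    rw [Category.assoc] at this
    exact this.2
  · have := hF ((pullback.snd (pullback.snd (g ∣_ V) (g ∣_ V) ≫ (g ∣_ V)) (g ∣_ V) ≫ (g ∣_ V)) ≫ V.ι) f η hη
    rw [Category.assoc] at this
    exact this.1

theorem ges_of_family {T : Scheme.{u}} {η : T} {X : Scheme.{u}} (f : X ⟶ T) (V : X.Opens) {J : Type u} [Finite J]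
    (Y : J → Scheme.{u}) (g : ∀ a, Y a ⟶ X)
    (h : ∀ a, GES η ((g a) ⁻¹ᵁ V).ι (g a ≫ f)) : GES η (Sigma.desc g ⁻¹ᵁ V).ι (Sigma.desc g ≫ f) := by
  have e : ∀ a, Sigma.ι Y a ⁻¹ᵁ (Sigma.desc g ⁻¹ᵁ V) = (g a) ⁻¹ᵁ V := fun a => by
    rw [← Scheme.Hom.comp_preimage, Sigma.ι_desc]
  refine ges_of_local (fun a => Sigma.ι Y a) (fun a => inferInstance) (fun y => ?_)
    (fun a => (Sigma.ι Y a) ∣_ (Sigma.desc g ⁻¹ᵁ V)) (fun a => (Sigma.ι Y a ⁻¹ᵁ (Sigma.desc g ⁻¹ᵁ V)).ι)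
    (fun a => isPullback_morphismRestrict (Sigma.ι Y a) (Sigma.desc g ⁻¹ᵁ V)) (fun a => ?_)
  · obtain ⟨a, z, hz⟩ := (sigmaOpenCover Y).exists_eq y
    exact ⟨a, z, hz⟩
  · rw [e a, Sigma.ι_desc_assoc]
    exact h a

theorem ges_of_tree (hF : HF.{u}) (hD1 : D1.{u}) {T : Scheme.{u}} [AlgebraicGeometry.IsNoetherian T]
    {η : T} (hη : ∀ z : T, z ⤳ η → z = η) {X : Scheme.{u}} (f : X ⟶ T) (V : X.Opens) (h : Tree T X f V)
    (hf1 : LocallyOfFiniteType f) (hf2 : QuasiCompact f) : GES η V.ι f := by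
  induction h with
  | leaf X f V n hn t J h hV => exact ges_of_esc fun m => K260.EsLeaf.leaf_tree m f V n hn t J h hV
  | etale f V Y g h1 h2 h3 h ih =>
    rename_i k
    have hl : ∀ a, LocallyOfFiniteType (g a ≫ f) := fun a => by
      have := h1 a
      infer_instance
    refine ges_of_local (J := ULift.{u} (Fin k)) (fun a => g a.down) (fun a => h1 a.down) (fun y => ?_)
      (fun a => (g a.down) ∣_ V) (fun a => (g a.down ⁻¹ᵁ V).ι)
      (fun a => isPullback_morphismRestrict (g a.down) V) (fun a => ?_)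
    · obtain ⟨a, ha⟩ := h3 y
      exact ⟨⟨a⟩, ha⟩
    · have := h2 a.down
      exact ih a.down (hl a.down) inferInstance
  | proper f V Y g h1 h3 h ih =>
    rename_i k
    have hp : IsProper (Sigma.desc fun a : ULift.{u} (Fin k) => g a.down) :=
      K381.DisjModel.isProper_sigmaDesc _ fun a => h1 a.down
    refine ges_of_proper_cover hF hD1 hη f V (Sigma.desc fun a : ULift.{u} (Fin k) => g a.down) (fun x hx => ?_)
      (ges_of_family f V (fun a : ULift.{u} (Fin k) => Y a.down) (fun a => g a.down) fun a => ?_)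
    · obtain ⟨a, z, hz⟩ := h3 x hx
      refine ⟨Sigma.ι (fun a : ULift.{u} (Fin k) => Y a.down) ⟨a⟩ z, ?_⟩
      rw [← Scheme.Hom.comp_apply, Sigma.ι_desc]
      exact hz
    · have := h1 a.down
      exact ih a.down inferInstance inferInstance

end K153.EsTree
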