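import Groth.Agent.Pi1C.GalWhisker
import Groth.Agent.Pi1A.GaloisExact

/-!
Uniqueness of functors from a Galois category to finite sets preserving finite limits and binary
coproducts, with nonempty values on non-initial objects.
-/

set_option autoImplicit false
universe u v w u₁ u₂ w'

open CategoryTheory CategoryTheory.Limits CategoryTheory.Functor PreGaloisCategory
open Groth.Agent.Pi1C.GalWhisker

namespace K153.FibUniq

section

variable {C : Type u} [Category.{v} C] 

/-- A functor preserving binary coproducts turns a direct sum decomposition into a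
disjoint union. -/
lemma isCompl_range_of_isColimit (F : C ⥤ FintypeCat.{w})
    [PreservesColimitsOfShape (Discrete WalkingPair) F]
    {X Y Z : C} (f : X ⟶ Y) (g : Z ⟶ Y) (hc : IsColimit (BinaryCofan.mk f g)) :
    IsCompl (Set.range (F.map f)) (Set.range (F.map g)) := by
  have hc' : IsColimit (BinaryCofan.mk ((F ⋙ FintypeCat.incl).map f)
      ((F ⋙ FintypeCat.incl).map g)) :=
    mapIsColimitOfPreservesOfIsColimit (F ⋙ FintypeCat.incl) f g hc
  obtain ⟨h1, h2, h3⟩ := (Types.binaryCofan_isColimit_iff _).mp ⟨hc'⟩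
  exact h3

lemma isEmpty_of_isInitial (F : C ⥤ FintypeCat.{w})
    [PreservesColimitsOfShape (Discrete WalkingPair) F]
    {X : C} (hX : IsInitial X) : IsEmpty (F.obj X) := by
  have hc : IsColimit (BinaryCofan.mk (𝟙 X) (𝟙 X)) :=
    BinaryCofan.isColimitMk (fun s => s.inl) (fun s => by simp) (fun s => hX.hom_ext _ _)
      (fun s m _ _ => hX.hom_ext _ _)
  have h := isCompl_range_of_isColimit F _ _ hc
  constructor
  intro x
  have hx : x ∈ Set.range (F.map (𝟙 X)) := ⟨x, by rw [F.map_id]; rfl⟩
  exact h.disjoint.le_bot ⟨hx, hx⟩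

variable [GaloisCategory C]

/-- Every point of the value lies in a connected component. -/
lemma exists_component (G : C ⥤ FintypeCat.{w}) [FiberFunctor G] (F : C ⥤ FintypeCat.{w'})
    [PreservesColimitsOfShape (Discrete WalkingPair) F] (n : ℕ) :
    ∀ (X : C) (_ : Nat.card (G.obj X) ≤ n) (x : F.obj X), ∃ (Y : C) (i : Y ⟶ X) (y : F.obj Y),
      IsConnected Y ∧ Mono i ∧ F.map i y = x := by
  induction n with
  | zero =>
    intro X hX x
    have h1 : IsEmpty (G.obj X) := by
      rw [← Finite.card_eq_zero_iff]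
      omega
    obtain ⟨hi⟩ := (initial_iff_fiber_empty G X).mpr h1
    exact ((isEmpty_of_isInitial F hi).false x).elim
  | succ n ih =>
    intro X hX x
    by_cases hc : IsConnected X
    · exact ⟨X, 𝟙 X, x, hc, inferInstance, by simp⟩
    · obtain ⟨Y, i, hY, hi, hni⟩ :=
        has_non_trivial_subobject_of_not_isConnected_of_not_initial X hc
          (fun hX => (isEmpty_of_isInitial F hX).false x)
      obtain ⟨Z, u, ⟨hcol⟩⟩ := PreGaloisCategory.monoInducesIsoOnDirectSummand i
      have hG := isCompl_range_of_isColimit G i u hcol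
      have hF := isCompl_range_of_isColimit F i u hcol
      have hm : Mono u := by
        have hinj : Function.Injective (G.map u) := by
          have hc' : IsColimit (BinaryCofan.mk ((G ⋙ FintypeCat.incl).map i)
            ((G ⋙ FintypeCat.incl).map u)) :=
              mapIsColimitOfPreservesOfIsColimit (G ⋙ FintypeCat.incl) i u hcol
          exact ((Types.binaryCofan_isColimit_iff _).mp ⟨hc'⟩).2.1
        have : Mono (G.map u) := ConcreteCategory.mono_of_injective _ hinj
        exact G.mono_of_mono_map this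
      have hY' : Nat.card (G.obj Y) < Nat.card (G.obj X) := lt_card_fiber_of_mono_of_notIso G i hni
      have hZ' : Nat.card (G.obj Z) < Nat.card (G.obj X) := by
        apply lt_card_fiber_of_mono_of_notIso G u
        intro hiso
        obtain ⟨y⟩ := (not_initial_iff_fiber_nonempty G Y).mp hY
        have hs : Function.Surjective (G.map u) :=
          ((ConcreteCategory.isIso_iff_bijective (G.map u)).mp inferInstance).2
        obtain ⟨z, hz⟩ := hs (G.map i y)
        exact hG.disjoint.le_bot ⟨⟨y, rfl⟩, ⟨z, hz⟩⟩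
      have hx : x ∈ Set.range (F.map i) ⊔ Set.range (F.map u) := by
        rw [hF.sup_eq_top]; trivial
      rcases hx with ⟨y, hy⟩ | ⟨z, hz⟩
      · obtain ⟨W, j, w, h1, h2, h3⟩ := ih Y (by omega) y
        exact ⟨W, j ≫ i, w, h1, mono_comp _ _, by
          rw [F.map_comp, ConcreteCategory.comp_apply, h3, hy]⟩
      · obtain ⟨W, j, w, h1, h2, h3⟩ := ih Z (by omega) z
        exact ⟨W, j ≫ u, w, h1, mono_comp _ _, by
          rw [F.map_comp, ConcreteCategory.comp_apply, h3, hz]⟩

/-- A connected subobject of `A ⨯ X` projects isomorphically to `A` if `A` is Galois and splits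
`X`. -/
lemma isIso_fst_of_galois (G : C ⥤ FintypeCat.{w}) [FiberFunctor G] {A X Y : C} [IsGalois A]
    (a : G.obj A)
    (hbij : Function.Surjective (fun f : A ⟶ X => G.map f a)) (i : Y ⟶ A ⨯ X) [Mono i]
    [IsConnected Y] : IsIso (i ≫ prod.fst) := by
  obtain ⟨y⟩ := nonempty_fiber_of_isConnected G Y
  obtain ⟨g, hg⟩ := MulAction.exists_smul_eq (Aut A) a (G.map (i ≫ prod.fst) y)
  obtain ⟨f, hf⟩ := hbij (G.map (i ≫ prod.snd) y)
  have hg' : G.map g.hom a = G.map (i ≫ prod.fst) y := hg
  let s₀ : A ⟶ A ⨯ X := prod.lift (𝟙 A) (g.inv ≫ f)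
  have hs₀ : G.map s₀ (G.map (i ≫ prod.fst) y) = G.map i y := by
    apply (fiberBinaryProductEquiv G A X).injective
    have key : ∀ z z' : G.obj (A ⨯ X), G.map prod.fst z = G.map prod.fst z' →
        G.map prod.snd z = G.map prod.snd z' →
        (fiberBinaryProductEquiv G A X) z = (fiberBinaryProductEquiv G A X) z' := by
      intro z z' h1 h2
      obtain ⟨⟨p, q⟩, rfl⟩ := (fiberBinaryProductEquiv G A X).symm.surjective z
      obtain ⟨⟨p', q'⟩, rfl⟩ := (fiberBinaryProductEquiv G A X).symm.surjective z'
      simp only [fiberBinaryProductEquiv_symm_fst_apply] at h1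
      simp only [fiberBinaryProductEquiv_symm_snd_apply] at h2
      rw [h1, h2]
    apply key
    · simp only [← ConcreteCategory.comp_apply, ← G.map_comp, s₀, prod.lift_fst, Category.assoc,
        Category.comp_id]
    · have hgi : g.hom ≫ g.inv = 𝟙 A := Iso.hom_inv_id g
      have h3 : g.hom ≫ s₀ ≫ prod.snd = f := by
        rw [prod.lift_snd, ← Category.assoc, hgi, Category.id_comp]
      rw [← hg', ← ConcreteCategory.comp_apply, ← ConcreteCategory.comp_apply, ← G.map_comp,
        ← G.map_comp, h3, ← ConcreteCategory.comp_apply, ← G.map_comp]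
      exact hf
  -- the morphism `A → A ⨯ X` factors through `Y`
  have hp : IsIso (pullback.fst s₀ i) := by
    apply IsConnected.noTrivialComponent _ (pullback.fst s₀ i)
    exact not_initial_of_inhabited G ((fiberPullbackEquiv G s₀ i).symm
      ⟨(G.map (i ≫ prod.fst) y, y), hs₀⟩)
  let s : A ⟶ Y := inv (pullback.fst s₀ i) ≫ pullback.snd s₀ i
  have hs : s ≫ i = s₀ := by
    simp only [s, Category.assoc, ← pullback.condition, IsIso.inv_hom_id_assoc]
  have hs1 : s ≫ (i ≫ prod.fst) = 𝟙 A := by
    rw [← Category.assoc, hs, prod.lift_fst]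
  have hsm : Mono s := mono_of_mono_fac hs1
  have hsi : IsIso s := by
    apply IsConnected.noTrivialComponent _ s
    exact IsConnected.notInitial
  have : i ≫ prod.fst = inv s := by
    rw [← cancel_epi s, hs1, IsIso.hom_inv_id]
  rw [this]
  infer_instance

section Specialized

variable (G F : C ⥤ FintypeCat.{v}) [FiberFunctor G] [PreservesFiniteLimits F]
  [PreservesColimitsOfShape (Discrete WalkingPair) F]

omit [PreservesFiniteLimits F] [PreservesColimitsOfShape (Discrete WalkingPair) F] in
/-- There is a natural transformation. -/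
lemma nonempty_natTrans (h : ∀ X : C, IsEmpty (F.obj X) → Nonempty (IsInitial X)) :
    Nonempty (G ⟶ F) := by
  have h1 : ∀ j, Finite ((PointedGaloisObject.incl G ⋙ F ⋙ FintypeCat.incl).obj j) :=
    fun j => inferInstanceAs (Finite (F.obj j.obj))
  have h2 : ∀ j, Nonempty ((PointedGaloisObject.incl G ⋙ F ⋙ FintypeCat.incl).obj j) :=
    fun j => by
      have : IsGalois j.obj := j.isGalois
      change Nonempty (F.obj j.obj)
      by_contra hne
      rw [not_nonempty_iff] at hne
      obtain ⟨hi⟩ := h j.obj hne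
      exact IsConnected.notInitial hi
  obtain ⟨s, hs⟩ := nonempty_sections_of_finite_cofiltered_system
    (PointedGaloisObject.incl G ⋙ F ⋙ FintypeCat.incl)
  let c : Cocone ((PointedGaloisObject.incl G).op ⋙ coyoneda) :=
    { pt := F ⋙ FintypeCat.incl
      ι := { app := fun A => { app := fun X => ↾fun (f : (A.unop : C) ⟶ X) => F.map f (s A.unop) }
             naturality := fun A B g => by
              have hg := hs g.unop
              ext Y (h : (A.unop : C) ⟶ Y)
              change F.map (g.unop.val ≫ h) (s B.unop) = F.map h (s A.unop)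
              rw [F.map_comp, FintypeCat.comp_apply, ← hg]
              rfl } }
  exact ⟨(FullyFaithful.whiskeringRight (FullyFaithful.ofFullyFaithful FintypeCat.incl)
    C).preimage ((PointedGaloisObject.isColimit G).desc c)⟩

lemma injective_app (φ : G ⟶ F) (X : C) : Function.Injective (φ.app X) := by
  intro x y hxy
  obtain ⟨A, a, hA, hbij⟩ := exists_galois_representative G X
  obtain ⟨f, rfl⟩ := hbij.2 x
  obtain ⟨g, rfl⟩ := hbij.2 y
  have h1 : F.map f (φ.app A a) = F.map g (φ.app A a) := by
    have e1 := NatTrans.naturality_apply φ f a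
    have e2 := NatTrans.naturality_apply φ g a
    rw [← e1, ← e2]
    exact hxy
  have hne : Nonempty (F.obj (equalizer f g)) :=
    ⟨((PreservesEqualizer.iso (F ⋙ FintypeCat.incl) f g ≪≫
      Types.equalizerIso (F.map f).hom (F.map g).hom).toEquiv).symm ⟨φ.app A a, h1⟩⟩
  have : IsIso (equalizer.ι f g) := by
    apply IsConnected.noTrivialComponent _ (equalizer.ι f g)
    intro hi
    exact (isEmpty_of_isInitial F hi).false hne.some
  have hfg : f = g := eq_of_epi_equalizer
  rw [hfg]

lemma surjective_app (φ : G ⟶ F) (X : C) : Function.Surjective (φ.app X) := by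
  intro x
  obtain ⟨A, a, hA, hbij⟩ := exists_galois_representative G X
  let e := (PreservesLimitPair.iso (F ⋙ FintypeCat.incl) A X ≪≫
    Types.binaryProductIso (F.obj A) (F.obj X)).toEquiv
  have he1 : ∀ z : (F.obj A) × (F.obj X), F.map prod.fst (e.symm z) = z.1 := by
    rintro z
    change ((Types.binaryProductIso _ _).inv ≫ _ ≫ (F ⋙ FintypeCat.incl).map prod.fst) _ = _
    erw [PreservesLimitPair.iso_inv_fst, Types.binaryProductIso_inv_comp_fst]
    rfl
  have he2 : ∀ z : (F.obj A) × (F.obj X), F.map prod.snd (e.symm z) = z.2 := by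
    rintro z
    change ((Types.binaryProductIso _ _).inv ≫ _ ≫ (F ⋙ FintypeCat.incl).map prod.snd) _ = _
    erw [PreservesLimitPair.iso_inv_snd, Types.binaryProductIso_inv_comp_snd]
    rfl
  obtain ⟨Y, i, y, hY, hi, hy⟩ := exists_component G F _ (A ⨯ X) le_rfl
    (e.symm (φ.app A a, x))
  have hiso : IsIso (i ≫ prod.fst) := isIso_fst_of_galois G a hbij.2 i
  refine ⟨G.map (inv (i ≫ prod.fst) ≫ i ≫ prod.snd) a, ?_⟩
  have e1 := NatTrans.naturality_apply φ (inv (i ≫ prod.fst) ≫ i ≫ prod.snd) a
  rw [e1]
  have h1 : φ.app A a = F.map (i ≫ prod.fst) y := by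
    rw [F.map_comp, ConcreteCategory.comp_apply, hy, he1]
  rw [h1, ← ConcreteCategory.comp_apply, ← F.map_comp, IsIso.hom_inv_id_assoc, F.map_comp,
    ConcreteCategory.comp_apply, hy, he2]

lemma nonempty_iso_specialized (h : ∀ X : C, IsEmpty (F.obj X) → Nonempty (IsInitial X)) :
    Nonempty (G ≅ F) := by
  obtain ⟨φ⟩ := nonempty_natTrans G F h
  have : ∀ X, IsIso (φ.app X) := fun X => 
    (ConcreteCategory.isIso_iff_bijective (φ.app X)).mpr
      ⟨injective_app G F φ X, surjective_app G F φ X⟩
  have : IsIso φ := NatIso.isIso_of_isIso_app φ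
  exact ⟨asIso φ⟩

end Specialized

lemma nonempty_iso (G F : C ⥤ FintypeCat.{w}) [FiberFunctor G] [PreservesFiniteLimits F]
    [PreservesColimitsOfShape (Discrete WalkingPair) F]
    (h : ∀ X : C, IsEmpty (F.obj X) → Nonempty (IsInitial X)) : Nonempty (G ≅ F) := by
  let E : FintypeCat.{w} ⥤ FintypeCat.{v} := FintypeCat.uSwitch.{w, v}
  have h1 : FiberFunctor (G ⋙ E) := FiberFunctor.comp_right E
  have h2 : ∀ X : C, IsEmpty ((F ⋙ E).obj X) → Nonempty (IsInitial X) := by
    intro X hX
    apply h
    constructor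
    intro x
    exact hX.false ((FintypeCat.uSwitchEquiv (F.obj X)).symm x)
  have h3 : PreservesFiniteLimits E := ⟨fun J _ _ => inferInstance⟩
  have h4 : PreservesFiniteLimits (F ⋙ E) := comp_preservesFiniteLimits F E
  obtain ⟨e⟩ := nonempty_iso_specialized (G ⋙ E) (F ⋙ E) h2
  exact ⟨(FullyFaithful.whiskeringRight (FullyFaithful.ofFullyFaithful E) C).preimageIso e⟩

end

end K153.FibUniq
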