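import Groth.Agent.Pi1.K153.EssImg
import Groth.Agent.Pi1B.SplitDom
import Groth.Agent.S0268

/-!
# Covers with a section over the algebraic closure come from the base field
-/

set_option autoImplicit false
universe u

open CategoryTheory CategoryTheory.Limits AlgebraicGeometry
open Groth.Agent.Pi1B.LimField

namespace K153.FieldSec

instance connectedSpace_spec_field (k : Type u) [Field k] :
    ConnectedSpace ↥(Spec (CommRingCat.of k)) :=
  inferInstanceAs (ConnectedSpace (PrimeSpectrum k))

theorem main (k : Type u) [Field k] {X : Scheme.{u}}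
    (f : X ⟶ Spec (CommRingCat.of k)) [CompactSpace X] [QuasiSeparatedSpace X]
    [ConnectedSpace ↥(pullback f (Spec.map (CommRingCat.ofHom (algebraMap k (AlgebraicClosure k)))))]
    (X' : FEt.Cat X) [ConnectedSpace X'.left]
    (σ : pullback f (Spec.map (CommRingCat.ofHom (algebraMap k (AlgebraicClosure k)))) ⟶ X'.left)
    (hσ : σ ≫ X'.hom = pullback.fst f (Spec.map (CommRingCat.ofHom (algebraMap k (AlgebraicClosure k))))) :
    ∃ S' : FEt.Cat (Spec (CommRingCat.of k)), Nonempty ((FEt.restrict f).obj S' ≅ X') := by
  obtain ⟨E, _, _, _, _, h, q, hh, hq⟩ :=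
    Groth.Agent.Pi1B.SplitDom.exists_sepField k f (AlgebraicClosure k) X' σ hσ
  have hs : Surjective (pullback.fst f (Spec.map (CommRingCat.ofHom
    (algebraMap k (AlgebraicClosure k))))) := inferInstance
  have hX : ConnectedSpace X := hs.surj.connectedSpace (Scheme.Hom.continuous _)
  have hfull : (FEt.restrict f).Full := (Groth.Agent.S0268.result k f).1
  have : Algebra.FormallyEtale k E := Algebra.FormallyEtale.of_isSeparable k E
  have : Algebra.Etale k E :=
    { finitePresentation := Algebra.FinitePresentation.of_finiteType.mp inferInstance }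
  let V : FEt.Cat (Spec (CommRingCat.of k)) := Groth.Agent.Pi1A.FEtAffine.ofAlgebra k E
  let e : (FEt.restrict f).obj V ⟶ X' :=
    MorphismProperty.Over.homMk ((pullbackSymmetry (toBase k E) f).hom ≫ h) (by
      rw [Category.assoc, hh]
      exact pullbackSymmetry_hom_comp_fst (toBase k E) f)
  obtain ⟨x⟩ := (inferInstance : Nonempty X)
  have hne : Nonempty ((FEt.restrict f).obj V).left := by
    have hs' : Surjective (pullback.snd (toBase k E) f) := inferInstance
    obtain ⟨y, -⟩ := hs'.surj x
    exact ⟨y⟩
  exact K153.EssImg.exists_obj f V X' e hne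

end K153.FieldSec
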