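import Groth.Agent.Pi1C.GalWhisker
import Groth.Agent.Pi1A.GaloisExact

/-!
Subgroups of fundamental groups of Galois categories and whiskering: sections, stabilizers, kernels.
-/

set_option autoImplicit false
universe u v w u₁ u₂ w'

open CategoryTheory PreGaloisCategory
open Groth.Agent.Pi1C.GalWhisker

namespace K153.GalX

section

variable {C : Type u} {C' : Type u} [Category.{v} C] [Category.{v} C']
  (H : C ⥤ C')
  (F' : C' ⥤ FintypeCat.{w})
  [GaloisCategory C] [GaloisCategory C'] [FiberFunctor F'] [FiberFunctor (H ⋙ F')]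

omit [GaloisCategory C] [FiberFunctor (H ⋙ F')] in
/-- The image of the fundamental group fixes a point iff there is a section through it. -/
lemma range_le_stabilizer_iff (X : C) (a : (H ⋙ F').obj X) :
    (Pi1X.autWhisker H F').range ≤ MulAction.stabilizer (Aut (H ⋙ F')) a ↔
      ∃ s : ⊤_ C' ⟶ H.obj X, ∀ t : F'.obj (⊤_ C'), F'.map s t = a := by
  obtain ⟨hu⟩ := nonempty_unique_fiber_terminal F'
  have : IsConnected (⊤_ C') := Groth.Agent.Pi1A.GaloisExact.isConnected_terminal
  constructor
  · intro h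
    obtain ⟨g, hg⟩ := exists_map_of_stabilizer_le F' (A := ⊤_ C') (X := H.obj X) hu.default a (by
      intro σ _
      exact h ⟨σ, rfl⟩)
    exact ⟨g, fun t => by rw [hu.uniq t]; exact hg⟩
  · rintro ⟨s, hs⟩ _ ⟨σ, rfl⟩
    change σ • (show F'.obj (H.obj X) from a) = a
    have h1 := map_smul' F' s σ hu.default
    rw [hs] at h1
    rw [hs] at h1
    exact h1.symm

omit [GaloisCategory C'] [FiberFunctor F'] in
/-- The normal closure of the image fixes a point iff the image acts trivially on the
fibre. -/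
lemma normalClosure_le_stabilizer_iff (X : C) [IsConnected X] (a : (H ⋙ F').obj X) :
    Subgroup.normalClosure ((Pi1X.autWhisker H F').range : Set (Aut (H ⋙ F'))) ≤
      MulAction.stabilizer (Aut (H ⋙ F')) a ↔ ∀ (σ : Aut F') (y : F'.obj (H.obj X)), σ • y = y := by
  constructor
  · intro h σ y
    obtain ⟨g, hg⟩ := MulAction.exists_smul_eq (Aut (H ⋙ F')) a (show (H ⋙ F').obj X from y)
    have h1 : g⁻¹ * Pi1X.autWhisker H F' σ * g ∈
        Subgroup.normalClosure ((Pi1X.autWhisker H F').range : Set (Aut (H ⋙ F'))) := by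
      have h2 : Pi1X.autWhisker H F' σ ∈
        Subgroup.normalClosure ((Pi1X.autWhisker H F').range : Set (Aut (H ⋙ F'))) :=
          Subgroup.subset_normalClosure ⟨σ, rfl⟩
      have h3 := Subgroup.Normal.conj_mem inferInstance _ h2 g⁻¹
      rwa [inv_inv] at h3
    have h2 := h h1
    rw [MulAction.mem_stabilizer_iff, mul_smul, mul_smul, inv_smul_eq_iff, hg] at h2
    exact h2
  · intro h
    let φ : Aut (H ⋙ F') →* Equiv.Perm ((H ⋙ F').obj X) :=
      MulAction.toPermHom (Aut (H ⋙ F')) ((H ⋙ F').obj X)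
    have h1 : Subgroup.normalClosure ((Pi1X.autWhisker H F').range : Set (Aut (H ⋙ F'))) ≤ φ.ker := by
      apply Subgroup.normalClosure_le_normal
      rintro _ ⟨σ, rfl⟩
      simp only [SetLike.mem_coe, MonoidHom.mem_ker]
      ext x
      exact h σ x
    intro σ hσ
    have h2 := h1 hσ
    rw [MonoidHom.mem_ker] at h2
    exact congrArg (fun f : Equiv.Perm ((H ⋙ F').obj X) => f a) h2

/-- The kernel fixes a point iff the pointed connected object is dominated by a connected
subobject of some object in the image. -/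
lemma ker_le_stabilizer_iff (X' : C') [IsConnected X'] (a' : F'.obj X') :
    (Pi1X.autWhisker H F').ker ≤ MulAction.stabilizer (Aut F') a' ↔
      ∃ (X : C) (Y' : C') (i : Y' ⟶ H.obj X) (_ : Y' ⟶ X'), Mono i ∧ IsConnected Y' := by
  constructor
  · intro h
    let S : Set (Aut F') := (MulAction.stabilizer (Aut F') a' : Set (Aut F'))
    have hS : IsOpen S := stabilizer_isOpen (Aut F') a'
    have hcl : IsClosed (Pi1X.autWhisker H F' '' Sᶜ) :=
      (hS.isClosed_compl.isCompact.image (continuous_autWhisker H F')).isClosed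
    have h1 : (1 : Aut (H ⋙ F')) ∉ Pi1X.autWhisker H F' '' Sᶜ := by
      rintro ⟨σ, hσ, hσ'⟩
      exact hσ (h (MonoidHom.mem_ker.mpr hσ'))
    have h2 : (Pi1X.autWhisker H F' '' Sᶜ)ᶜ ∈ nhds (1 : Aut (H ⋙ F')) :=
      hcl.isOpen_compl.mem_nhds h1
    obtain ⟨A, -, hA⟩ := (nhds_one_has_basis_stabilizers (H ⋙ F')).mem_iff.mp h2
    let a : F'.obj (H.obj A.obj) := A.pt
    obtain ⟨Y', i, y, hy, hcY, hm⟩ := fiber_in_connected_component F' (H.obj A.obj) a
    obtain ⟨p, hp⟩ := exists_map_of_stabilizer_le F' y a' (by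
      intro σ hσ
      by_contra hne
      have h3 : σ • a = a := by
        rw [← hy, ← map_smul', hσ]
      have h4 : Pi1X.autWhisker H F' σ ∈ MulAction.stabilizer (Aut (H ⋙ F')) A.pt := h3
      exact hA h4 ⟨σ, hne, rfl⟩)
    exact ⟨A.obj, Y', i, p, hm, hcY⟩
  · rintro ⟨X, Y', i, q, hi, hY'⟩ σ hσ
    obtain ⟨y₀⟩ := nonempty_fiber_of_isConnected F' Y'
    have : Nonempty (F'.obj Y') := ⟨y₀⟩
    obtain ⟨y, rfl⟩ := surjective_of_nonempty_fiber_of_isConnected F' q a'
    rw [MulAction.mem_stabilizer_iff, ← map_smul']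
    congr 1
    have hinj : Function.Injective (F'.map i) :=
      ConcreteCategory.injective_of_mono_of_preservesPullback (F'.map i)
    apply hinj
    rw [map_smul']
    have h5 : Pi1X.autWhisker H F' σ • (show (H ⋙ F').obj X from F'.map i y) =
      (show (H ⋙ F').obj X from F'.map i y) := by rw [MonoidHom.mem_ker.mp hσ, one_smul]
    exact h5

end

section

variable {C : Type u₁} [Category.{u₂} C] [GaloisCategory C] (F : C ⥤ FintypeCat.{w})
  [FiberFunctor F]

/-- A closed subgroup `S` of the fundamental group contains `σ` as soon as `σ` fixes every point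
of a connected object fixed by `S`. -/
lemma mem_of_isClosed_of_stabilizer (S : Subgroup (Aut F)) (hS : IsClosed (S : Set (Aut F)))
    (σ : Aut F)
    (h : ∀ (X : C) (a : F.obj X), IsConnected X → S ≤ MulAction.stabilizer (Aut F) a → σ • a = a) :
    σ ∈ S := by
  refine mem_of_isClosed F hS σ ?_
  intro A a hA
  let φ : Aut F →* Equiv.Perm (F.obj A) := MulAction.toPermHom (Aut F) (F.obj A)
  let T : Type w := Equiv.Perm (F.obj A) ⧸ (S.map φ)
  have : Finite (Equiv.Perm (F.obj A)) := inferInstance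
  have : Finite T := Quotient.finite _
  let _ : MulAction (Aut F) T := MulAction.compHom T φ
  have hsm : ∀ (τ : Aut F) (t : T), τ • t = φ τ • t := fun _ _ => rfl
  have hφ : ∀ τ : Aut F, (∀ b : F.obj A, τ • b = b) → φ τ = 1 := by
    intro τ hτ
    ext b
    exact hτ b
  obtain ⟨X, e, he⟩ := exists_obj_of_action F T (by
    intro t
    refine Subgroup.isOpen_mono (H₁ := ⨅ b : F.obj A, MulAction.stabilizer (Aut F) b) ?_ ?_
    · intro τ hτ
      rw [Subgroup.mem_iInf] at hτ
      rw [MulAction.mem_stabilizer_iff, hsm, hφ τ hτ, one_smul]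
    · rw [Subgroup.coe_iInf]
      exact isOpen_iInter_of_finite fun b => stabilizer_isOpen (Aut F) b)
  obtain ⟨Y, i, y, hy, hcY, hm⟩ := fiber_in_connected_component F X (e.symm (QuotientGroup.mk 1))
  have hinj : Function.Injective (F.map i) :=
      ConcreteCategory.injective_of_mono_of_preservesPullback (F.map i)
  have hst : ∀ τ : Aut F, τ • y = y ↔ φ τ ∈ S.map φ := by
    intro τ
    rw [← hinj.eq_iff, map_smul', hy]
    have h1 := he τ (e.symm (QuotientGroup.mk 1))
    rw [Equiv.apply_symm_apply] at h1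
    rw [← e.injective.eq_iff, h1, Equiv.apply_symm_apply, hsm]
    have h2 : φ τ • ((QuotientGroup.mk 1 : T)) = (QuotientGroup.mk (φ τ) : T) := by
      change QuotientGroup.mk (φ τ * 1) = _
      rw [mul_one]
    rw [h2, QuotientGroup.eq]
    simp
  have h1 := h Y y hcY (by
    intro τ hτ
    rw [MulAction.mem_stabilizer_iff, hst]
    exact ⟨τ, hτ, rfl⟩)
  rw [hst] at h1
  obtain ⟨τ, hτ, hτ'⟩ := h1
  exact ⟨τ, hτ, congrArg (fun f : Equiv.Perm (F.obj A) => f a) hτ'⟩

end

end K153.GalX
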