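import Mathlib.Topology.Sober
import Mathlib.Topology.NoetherianSpace
import Mathlib.Topology.Connected.Clopen

/-!
# Extending clopen subsets from a dense open subset of a sober space

`T` sober with locally finitely many irreducible components, `O` dense open such that for `y ∉ O`
the set of proper generizations of `y` is connected. Then clopen subsets of `O` extend to clopen
subsets of `T`.
-/

set_option autoImplicit false
universe u

open TopologicalSpace

namespace K153.MaxGen

variable {T : Type u} [TopologicalSpace T]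

/-- Points without proper generizations. -/
def IsMaxGen (z : T) : Prop := ∀ z' : T, z' ⤳ z → z' = z

lemma exists_isMaxGen [QuasiSober T] [T0Space T] (v : T) : ∃ z : T, IsMaxGen z ∧ z ⤳ v := by
  have hirr : IsIrreducible (irreducibleComponent v) := isIrreducible_irreducibleComponent
  have hcl : IsClosed (irreducibleComponent v) := isClosed_irreducibleComponent
  obtain ⟨z, hz⟩ := QuasiSober.sober hirr hcl
  refine ⟨z, ?_, ?_⟩
  · intro z' hz'
    have h1 : irreducibleComponent v ⊆ closure {z'} := by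
      rw [← hz.def]
      exact hz'.closure_subset
    have h2 : closure {z'} = irreducibleComponent v := by
      refine Set.Subset.antisymm ?_ h1
      refine (eq_irreducibleComponent (isIrreducible_singleton.closure).isPreirreducible h1).subset
    apply Inseparable.eq
    rw [inseparable_iff_closure_eq, h2, ← hz.def]
  · rw [specializes_iff_mem_closure, hz.def]
    exact mem_irreducibleComponent

lemma finite_isMaxGen [QuasiSober T] [T0Space T] (h : (irreducibleComponents T).Finite) :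
    {z : T | IsMaxGen z}.Finite := by
  refine Set.Finite.of_finite_image (f := fun z : T => closure {z}) (h.subset ?_) ?_
  · rintro _ ⟨z, hz, rfl⟩
    refine ⟨isIrreducible_singleton.closure, ?_⟩
    intro Z hZ hle
    obtain ⟨w, hw⟩ := QuasiSober.sober hZ.closure isClosed_closure
    have h1 : w ⤳ z := by
      rw [specializes_iff_mem_closure, hw.def]
      exact subset_closure (hle (subset_closure rfl))
    rw [← hz w h1]
    change Z ⊆ closure {w}
    rw [hw.def]
    exact subset_closure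
  · intro z _ z' _ hzz
    apply Inseparable.eq
    rw [inseparable_iff_closure_eq]
    exact hzz

/-- If `y` lies in the closure of the open `V`, some point of `V` specializes to `y`. -/
lemma exists_mem_specializes [QuasiSober T] [T0Space T] {y : T}
    (hy : ∃ N : Set T, IsOpen N ∧ y ∈ N ∧ {z : T | z ∈ N ∧ IsMaxGen z}.Finite) (V : Set T)
    (hV : IsOpen V) (hyV : y ∈ closure V) : ∃ z ∈ V, z ⤳ y := by
  obtain ⟨N, hN, hyN, hfin⟩ := hy
  let M : Set T := {z : T | z ∈ N ∧ IsMaxGen z} ∩ V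
  have hM : M.Finite := hfin.subset Set.inter_subset_left
  have h1 : V ∩ N ⊆ ⋃ z ∈ M, closure {z} := by
    rintro v ⟨hv, hvN⟩
    obtain ⟨z, hz, hzv⟩ := exists_isMaxGen v
    exact Set.mem_biUnion (⟨⟨hzv.mem_open hN hvN, hz⟩, hzv.mem_open hV hv⟩ : z ∈ M)
      (specializes_iff_mem_closure.mp hzv)
  have h2 : IsClosed (⋃ z ∈ M, closure {z}) := hM.isClosed_biUnion fun z _ => isClosed_closure
  have h3 : y ∈ closure (V ∩ N) := by
    rw [mem_closure_iff] at hyV ⊢
    intro O hO hyO
    obtain ⟨w, hw1, hw2⟩ := hyV (O ∩ N) (hO.inter hN) ⟨hyO, hyN⟩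
    exact ⟨w, hw1.1, hw2, hw1.2⟩
  have h4 := closure_minimal h1 h2 h3
  simp only [Set.mem_iUnion] at h4
  obtain ⟨z, hz, hzy⟩ := h4
  exact ⟨z, hz.2, specializes_iff_mem_closure.mpr hzy⟩

lemma exists_isMaxGen_closed [QuasiSober T] [T0Space T] (A : Set T) (hA : IsClosed A)
    (hne : A.Nonempty) : ∃ y ∈ A, ∀ z ∈ A, z ⤳ y → z = y := by
  obtain ⟨a, ha⟩ := hne
  have : QuasiSober A := hA.isClosedEmbedding_subtypeVal.quasiSober
  obtain ⟨y, hy, -⟩ := exists_isMaxGen (T := A) ⟨a, ha⟩
  refine ⟨y, y.2, fun z hz hzy => ?_⟩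
  have h1 : (⟨z, hz⟩ : A) ⤳ y := Topology.IsInducing.subtypeVal.specializes_iff.mp hzy
  exact congrArg Subtype.val (hy _ h1)

theorem exists_clopen [QuasiSober T] [T0Space T] (O : Set T) (hO : Dense O)
    (hfin : ∀ y : T, ∃ N : Set T, IsOpen N ∧ y ∈ N ∧ {z : T | z ∈ N ∧ IsMaxGen z}.Finite)
    (hconn : ∀ y ∉ O, IsPreconnected {z : T | z ⤳ y ∧ z ≠ y})
    (V₁ V₂ : Set T) (h₁ : IsOpen V₁) (h₂ : IsOpen V₂) (hd : Disjoint V₁ V₂)
    (hu : V₁ ∪ V₂ = O) : ∃ W : Set T, IsClopen W ∧ W ∩ O = V₁ := by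
  have hcov : closure V₁ ∪ closure V₂ = Set.univ := by
    rw [← closure_union, hu, hO.closure_eq]
  have hO1 : closure V₁ ∩ V₂ = ∅ := by
    rw [← Set.disjoint_iff_inter_eq_empty]
    exact hd.closure_left h₂
  have hO2 : closure V₂ ∩ V₁ = ∅ := by
    rw [← Set.disjoint_iff_inter_eq_empty]
    exact hd.symm.closure_left h₁
  have hdisj : closure V₁ ∩ closure V₂ = ∅ := by
    by_contra hne
    obtain ⟨y, ⟨hy1, hy2⟩, hy⟩ := exists_isMaxGen_closed (closure V₁ ∩ closure V₂)
      (isClosed_closure.inter isClosed_closure) (Set.nonempty_iff_ne_empty.mpr hne)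
    have hyO : y ∉ O := by
      rw [← hu]
      rintro (h | h)
      · exact (hO2.subset ⟨hy2, h⟩ : y ∈ (∅ : Set T))
      · exact (hO1.subset ⟨hy1, h⟩ : y ∈ (∅ : Set T))
    have hc := hconn y hyO
    obtain ⟨z₁, hz₁, hzy₁⟩ := exists_mem_specializes (hfin y) V₁ h₁ hy1
    obtain ⟨z₂, hz₂, hzy₂⟩ := exists_mem_specializes (hfin y) V₂ h₂ hy2
    have hne₁ : z₁ ≠ y := by
      rintro rfl
      exact hyO (hu ▸ Or.inl hz₁)
    have hne₂ : z₂ ≠ y := by
      rintro rfl
      exact hyO (hu ▸ Or.inr hz₂)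
    rw [isPreconnected_closed_iff] at hc
    obtain ⟨w, ⟨hw1, hw2⟩, hw3⟩ := hc (closure V₁) (closure V₂) isClosed_closure isClosed_closure
      (by rw [hcov]; exact Set.subset_univ _)
      ⟨z₁, ⟨hzy₁, hne₁⟩, subset_closure hz₁⟩ ⟨z₂, ⟨hzy₂, hne₂⟩, subset_closure hz₂⟩
    exact hw2 (hy w hw3 hw1)
  have hcompl : closure V₁ = (closure V₂)ᶜ := by
    apply Set.Subset.antisymm
    · intro x hx hx2
      exact (hdisj.subset ⟨hx, hx2⟩ : x ∈ (∅ : Set T))
    · intro x hx
      have : x ∈ closure V₁ ∪ closure V₂ := hcov ▸ Set.mem_univ x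
      exact this.resolve_right hx
  refine ⟨closure V₁, ⟨isClosed_closure, ?_⟩, ?_⟩
  · rw [hcompl]
    exact isClosed_closure.isOpen_compl
  · rw [← hu]
    apply Set.Subset.antisymm
    · rintro x ⟨hx1, hx | hx⟩
      · exact hx
      · exact (hO1.subset ⟨hx1, hx⟩ : x ∈ (∅ : Set T)).elim
    · intro x hx
      exact ⟨subset_closure hx, Or.inl hx⟩

end K153.MaxGen
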