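import Groth.Agent.Pi1C.HomScheme
import Groth.Agent.Pi1A.FEtHom

/-!
# Section criterion for full faithfulness of `FEt.restrict f`

`FEt.restrict f` is fully faithful as soon as, for every finite étale `W → X`, the sections of `W`
over `f : X' → X` extend uniquely to sections over `X`.
-/

set_option autoImplicit false
universe u

open CategoryTheory CategoryTheory.Limits AlgebraicGeometry
open Groth.Agent.Pi1C.HomGlue Groth.Agent.Pi1C.HomScheme Groth.Agent.Pi1A.FEtHom

namespace K153.SecCrit

variable {X' X : Scheme.{u}} (f : X' ⟶ X)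

/-- The map `X' ×_X U → X ×_X U` composed with the projection to `U`. -/
lemma map_snd {U T T' : Over X} (a : T ⟶ T') :
    ((Q U).map a).left ≫ pullback.snd T'.hom U.hom = pullback.snd T.hom U.hom :=
  pullback.lift_snd _ _ _

/-- **Section criterion.** -/
theorem full_faithful_of_sections
    (H : ∀ (W : FEt.Cat X) (t : X' ⟶ W.left), t ≫ W.hom = f →
      ∃! s : X ⟶ W.left, f ≫ s = t ∧ s ≫ W.hom = 𝟙 X) :
    (FEt.restrict f).Full ∧ (FEt.restrict f).Faithful := by
  refine full_faithful_of_existsUnique f fun T S g hg => ?_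
  let U : Over X := Over.mk T.hom
  let V : Over X := Over.mk S.hom
  have hU1 : IsFinite U.hom := T.prop.1
  have hU2 : Etale U.hom := T.prop.2
  have hV1 : IsFinite V.hom := S.prop.1
  have hV2 : Etale V.hom := S.prop.2
  obtain ⟨W₀, ev, hW1, hW2, hUP⟩ := exists_homObj U V
  let W : FEt.Cat X := MorphismProperty.Over.mk ⊤ W₀.hom ⟨hW1, hW2⟩
  let φ : Over.mk f ⟶ Over.mk (𝟙 X) := Over.homMk f (by simp)
  -- the isomorphism `X ×_X T ≅ T`
  let q : pullback (𝟙 X) T.hom ⟶ T.left := pullback.snd (𝟙 X) T.hom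
  have hq : IsIso q := inferInstance
  have hq' : q ≫ T.hom = pullback.fst (𝟙 X) T.hom := by
    rw [← pullback.condition, Category.comp_id]
  -- the translation of morphisms `T → S`
  let trans : (h : T.left ⟶ S.left) → (h ≫ S.hom = T.hom) →
      ((Q U).obj (Over.mk (𝟙 X)) ⟶ V) := fun h hh => Over.homMk (q ≫ h) (by
        change (q ≫ h) ≫ S.hom = pullback.fst (𝟙 X) T.hom ≫ 𝟙 X
        rw [Category.assoc, hh, hq', Category.comp_id])
  have hφ : ∀ (h : T.left ⟶ S.left) (hh : h ≫ S.hom = T.hom),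
      ((Q U).map φ ≫ trans h hh).left = (pullbackSymmetry f T.hom).hom ≫ proj f T ≫ h := by
    intro h hh
    change ((Q U).map φ).left ≫ pullback.snd (𝟙 X) T.hom ≫ h = _
    have := map_snd (U := U) φ
    change ((Q U).map φ).left ≫ pullback.snd (𝟙 X) T.hom = pullback.snd f T.hom at this
    rw [← Category.assoc, this, ← Category.assoc]
    congr 1
    exact (pullbackSymmetry_hom_comp_fst f T.hom).symm
  -- uniqueness
  have huniq : ∀ h h' : T.left ⟶ S.left, (h ≫ S.hom = T.hom) → (h' ≫ S.hom = T.hom) →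
      proj f T ≫ h = proj f T ≫ h' → h = h' := by
    intro h h' hh hh' heq
    obtain ⟨s, hs⟩ := (hUP (Over.mk (𝟙 X))).2 (trans h hh)
    obtain ⟨s', hs'⟩ := (hUP (Over.mk (𝟙 X))).2 (trans h' hh')
    have h1 : φ ≫ s = φ ≫ s' := by
      apply (hUP (Over.mk f)).1
      dsimp only at hs hs' ⊢
      rw [(Q U).map_comp, (Q U).map_comp, Category.assoc, Category.assoc, hs, hs']
      ext1
      rw [hφ h hh, hφ h' hh']
      exact congrArg ((pullbackSymmetry f T.hom).hom ≫ ·) heq
    have h2 : s.left = s'.left := by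
      refine (H W (f ≫ s.left) ?_).unique ⟨rfl, Over.w s⟩ ⟨?_, Over.w s'⟩
      · have := Over.w s
        change s.left ≫ W₀.hom = 𝟙 X at this
        change (f ≫ s.left) ≫ W₀.hom = f
        rw [Category.assoc, this, Category.comp_id]
      · exact (congrArg (fun a => a.left) h1).symm
    have h3 : s = s' := by
      ext1
      exact h2
    subst h3
    dsimp only at hs hs'
    rw [hs] at hs'
    have h4 : q ≫ h = q ≫ h' := congrArg (fun a => a.left) hs'
    exact (cancel_epi q).mp h4
  -- existence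
  let g' : (Q U).obj (Over.mk f) ⟶ V := Over.homMk ((pullbackSymmetry f T.hom).hom ≫ g) (by
    change ((pullbackSymmetry f T.hom).hom ≫ g) ≫ S.hom = pullback.fst f T.hom ≫ f
    rw [Category.assoc]
    refine (congrArg ((pullbackSymmetry f T.hom).hom ≫ ·) hg).trans ?_
    change (pullbackSymmetry f T.hom).hom ≫ pullback.fst T.hom f ≫ T.hom = _
    rw [← Category.assoc, pullbackSymmetry_hom_comp_fst, pullback.condition])
  obtain ⟨t, ht⟩ := (hUP (Over.mk f)).2 g'
  obtain ⟨s₀, ⟨hs1, hs2⟩, -⟩ := H W t.left (Over.w t)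
  let s : Over.mk (𝟙 X) ⟶ W₀ := Over.homMk s₀ hs2
  have hts : t = φ ≫ s := by
    ext1
    exact hs1.symm
  let e : pullback (𝟙 X) T.hom ⟶ S.left := ((Q U).map s ≫ ev).left
  have hw : e ≫ S.hom = pullback.fst (𝟙 X) T.hom ≫ 𝟙 X :=
    Over.w ((Q U).map s ≫ ev)
  have hh : (inv q ≫ e) ≫ S.hom = T.hom := by
    rw [Category.assoc, hw, Category.comp_id, ← hq', IsIso.inv_hom_id_assoc]
  refine ⟨inv q ≫ e, ⟨?_, hh⟩, fun h' hh' => ?_⟩
  · have h1 := hφ _ hh
    have h2 : trans _ hh = (Q U).map s ≫ ev := by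
      ext1
      change q ≫ inv q ≫ e = _
      rw [IsIso.hom_inv_id_assoc]
    dsimp only at ht
    rw [h2, ← Category.assoc, ← (Q U).map_comp, ← hts, ht] at h1
    have h3 : (pullbackSymmetry f T.hom).hom ≫ g = (pullbackSymmetry f T.hom).hom ≫ proj f T ≫
      inv q ≫ e := h1
    exact ((cancel_epi _).mp h3).symm
  · have h1 := hφ _ hh
    have h2 : trans _ hh = (Q U).map s ≫ ev := by
      ext1
      change q ≫ inv q ≫ e = _
      rw [IsIso.hom_inv_id_assoc]
    dsimp only at ht
    rw [h2, ← Category.assoc, ← (Q U).map_comp, ← hts, ht] at h1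
    have h3 : (pullbackSymmetry f T.hom).hom ≫ g = (pullbackSymmetry f T.hom).hom ≫ proj f T ≫
      inv q ≫ e := h1
    refine huniq _ _ hh'.2 hh ?_
    rw [hh'.1]
    exact (cancel_epi _).mp h3

/-- If `O_X → f_* O_{X'}` is an isomorphism then `FEt.restrict f` is fully faithful. -/
theorem full_faithful_of_app_bijective (hf : ∀ U : X.Opens, Function.Bijective (f.app U)) :
    (FEt.restrict f).Full ∧ (FEt.restrict f).Faithful := by
  refine full_faithful_of_sections f fun W t ht => ?_
  have : IsAffineHom W.hom := inferInstance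
  exact Groth.Agent.Pi1A.HomExt.existsUnique_extension f hf W.hom (𝟙 X) t (by
    rw [ht, Category.comp_id])

end K153.SecCrit
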