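import Groth.Agent.S0289
import Groth.Agent.S0242
import Groth.Agent.Pi1B.PurInsepSpec
import Groth.Agent.Pi1C.PurityQuot

/-!
Base change of finite etale covers along purely inseparable extensions, and the comparison for
extensions of separably closed fields.
-/

set_option autoImplicit false
universe u

open AlgebraicGeometry CategoryTheory CategoryTheory.Limits
open Groth.Agent.Pi1C.PurityQuot

namespace K153.SepBC

/-- Base change along a purely inseparable extension is an equivalence. -/
theorem isEquivalence_of_purelyInseparable (k L : Type u) [Field k] [Field L] [Algebra k L]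
    [IsPurelyInseparable k L] {X : Scheme.{u}} (f : X ⟶ Spec (CommRingCat.of k)) :
    (FEt.restrict (pullback.fst f
      (Spec.map (CommRingCat.ofHom (algebraMap k L))))).IsEquivalence := by
  have h1 : UniversallyInjective (Spec.map (CommRingCat.ofHom (algebraMap k L))) :=
    Groth.Agent.Pi1B.PurInsepSpec.universallyInjective_specMap k L
  have h2 : IsIntegralHom (Spec.map (CommRingCat.ofHom (algebraMap k L))) :=
    Groth.Agent.Pi1B.PurInsepSpec.isIntegralHom_specMap k L
  have h3 : Surjective (Spec.map (CommRingCat.ofHom (algebraMap k L))) :=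
    Groth.Agent.Pi1B.PurInsepSpec.surjective_specMap k L
  have h4 : UniversallyInjective (pullback.fst f
      (Spec.map (CommRingCat.ofHom (algebraMap k L)))) :=
    UniversallyInjective.isStableUnderBaseChange.of_isPullback
      (IsPullback.of_hasPullback f _).flip h1
  exact Groth.Agent.S0289.result _

/-- Transport of an equivalence along a commutative triangle with an isomorphism. -/
theorem isEquivalence_of_iso_comp {X Y Z : Scheme.{u}} (e : X ≅ Y) (f : X ⟶ Z) (g : Y ⟶ Z)
    (h : e.hom ≫ g = f) [(FEt.restrict g).IsEquivalence] : (FEt.restrict f).IsEquivalence := by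
  have h1 : (FEt.restrict g ⋙ FEt.restrict e.hom).IsEquivalence := inferInstance
  exact Functor.isEquivalence_of_iso ((restrictComp e.hom g).symm ≪≫ restrictCongr h)

/-- Comparison of base changes: two paths `k → K → M` and `k → L → M`. -/
theorem isEquivalence_of_square {S B C D X : Scheme.{u}} (f : X ⟶ S) (b : B ⟶ S) (c : D ⟶ B)
    (a : C ⟶ S) (d : D ⟶ C) (hsq : c ≫ b = d ≫ a)
    [(FEt.restrict (pullback.fst f a)).IsEquivalence]
    [(FEt.restrict (pullback.fst (pullback.snd f a) d)).IsEquivalence]
    [(FEt.restrict (pullback.fst (pullback.snd f b) c)).IsEquivalence] :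
    (FEt.restrict (pullback.fst f b)).IsEquivalence := by
  have sq1 : IsPullback (pullback.fst (pullback.snd f a) d ≫ pullback.fst f a)
      (pullback.snd (pullback.snd f a) d) f (d ≫ a) :=
    (IsPullback.of_hasPullback (pullback.snd f a) d).flip.paste_vert
      (IsPullback.of_hasPullback f a).flip |>.flip
  have sq2 : IsPullback (pullback.fst (pullback.snd f b) c ≫ pullback.fst f b)
      (pullback.snd (pullback.snd f b) c) f (c ≫ b) :=
    (IsPullback.of_hasPullback (pullback.snd f b) c).flip.paste_vert
      (IsPullback.of_hasPullback f b).flip |>.flip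
  rw [hsq] at sq2
  let e := sq2.isoIsPullback _ _ sq1
  have he : e.hom ≫ (pullback.fst (pullback.snd f a) d ≫ pullback.fst f a) =
      pullback.fst (pullback.snd f b) c ≫ pullback.fst f b := sq2.isoIsPullback_hom_fst _ _ sq1
  have h1 : (FEt.restrict (pullback.fst f a) ⋙
      FEt.restrict (pullback.fst (pullback.snd f a) d)).IsEquivalence := inferInstance
  have h2 : (FEt.restrict (pullback.fst (pullback.snd f a) d ≫ pullback.fst f a)).IsEquivalence :=
    Functor.isEquivalence_of_iso (restrictComp _ _).symm
  have h3 := isEquivalence_of_iso_comp e _ _ he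
  have h4 : (FEt.restrict (pullback.fst f b) ⋙
      FEt.restrict (pullback.fst (pullback.snd f b) c)).IsEquivalence :=
    Functor.isEquivalence_of_iso (restrictComp _ _)
  exact Functor.isEquivalence_of_comp_right _ (FEt.restrict (pullback.fst (pullback.snd f b) c))

theorem main (k K : Type u) [Field k] [Field K] [IsSepClosed k] [IsSepClosed K] [Algebra k K]
    {X : Scheme.{u}} (f : X ⟶ Spec (CommRingCat.of k)) [IsProper f] :
    (FEt.restrict (pullback.fst f (Spec.map (CommRingCat.ofHom (algebraMap k K))))).IsEquivalence := by
  let τ : AlgebraicClosure k →ₐ[k] AlgebraicClosure K := IsAlgClosed.lift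
  let _ : Algebra (AlgebraicClosure k) (AlgebraicClosure K) := τ.toRingHom.toAlgebra
  have i1 := isEquivalence_of_purelyInseparable k (AlgebraicClosure k) f
  have i2 := isEquivalence_of_purelyInseparable K (AlgebraicClosure K)
    (pullback.snd f (Spec.map (CommRingCat.ofHom (algebraMap k K))))
  have i3 := Groth.Agent.S0242.result (AlgebraicClosure k) (AlgebraicClosure K)
    (pullback.snd f (Spec.map (CommRingCat.ofHom (algebraMap k (AlgebraicClosure k)))))
  refine isEquivalence_of_square f (Spec.map (CommRingCat.ofHom (algebraMap k K)))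
    (Spec.map (CommRingCat.ofHom (algebraMap K (AlgebraicClosure K))))
    (Spec.map (CommRingCat.ofHom (algebraMap k (AlgebraicClosure k))))
    (Spec.map (CommRingCat.ofHom (algebraMap (AlgebraicClosure k) (AlgebraicClosure K)))) ?_
  rw [← Spec.map_comp, ← Spec.map_comp, ← CommRingCat.ofHom_comp, ← CommRingCat.ofHom_comp]
  congr 2
  ext x
  change algebraMap K (AlgebraicClosure K) (algebraMap k K x) = τ (algebraMap k _ x)
  rw [τ.commutes, ← IsScalarTower.algebraMap_apply]

end K153.SepBC
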